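import Cfsg.Agent.Lib.SporadicB.J1.Mat

/-!
Machine produced data for the first Janko group.
-/

namespace CfsgLib.SporadicB.J1Cert

/-- Right multiplication by the first stabiliser generator, chunk 0. -/
def hMulAChunk0 : List Nat := [1, 0, 4, 6, 2, 9, 3, 11, 12, 5, 15, 7, 8, 19, 20, 10, 23, 24, 26, 13, 14, 30, 31, 16, 17, 35]

/-- Right multiplication by the first stabiliser generator, chunk 1. -/
def hMulAChunk1 : List Nat := [18, 37, 38, 40, 21, 22, 44, 45, 47, 25, 50, 27, 28, 54, 29, 56, 57, 59, 32, 33, 63, 34, 65, 66, 36, 69]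

/-- Right multiplication by the first stabiliser generator, chunk 2. -/
def hMulAChunk2 : List Nat := [70, 72, 39, 75, 41, 42, 79, 43, 81, 82, 84, 46, 87, 48, 49, 91, 92, 51, 52, 96, 53, 98, 99, 55, 102, 103]

/-- Right multiplication by the first stabiliser generator, chunk 3. -/
def hMulAChunk3 : List Nat := [105, 58, 108, 60, 61, 112, 62, 114, 115, 64, 118, 119, 121, 67, 68, 125, 126, 128, 71, 131, 73, 74, 135, 136, 76, 77]

/-- Right multiplication by the first stabiliser generator, chunk 4. -/
def hMulAChunk4 : List Nat := [140, 78, 142, 143, 80, 146, 147, 149, 83, 152, 85, 86, 156, 157, 88, 89, 161, 90, 163, 164, 166, 93, 94, 170, 95, 172]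

/-- Right multiplication by the first stabiliser generator, chunk 5. -/
def hMulAChunk5 : List Nat := [173, 97, 176, 154, 178, 100, 101, 182, 183, 185, 104, 188, 106, 107, 192, 193, 109, 110, 197, 111, 199, 200, 113, 203, 133, 205]

/-- Right multiplication by the first stabiliser generator, chunk 6. -/
def hMulAChunk6 : List Nat := [116, 117, 209, 210, 212, 120, 215, 122, 123, 219, 124, 220, 221, 223, 127, 226, 129, 130, 230, 231, 132, 234, 134, 236, 237, 239]

/-- Right multiplication by the first stabiliser generator, chunk 7. -/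
def hMulAChunk7 : List Nat := [137, 138, 243, 139, 213, 245, 141, 248, 228, 250, 144, 145, 253, 254, 256, 148, 259, 150, 151, 263, 264, 153, 267, 155, 269, 270]

/-- Right multiplication by the first stabiliser generator, chunk 8. -/
def hMulAChunk8 : List Nat := [272, 158, 159, 276, 160, 186, 278, 162, 281, 261, 283, 165, 167, 168, 288, 169, 290, 291, 171, 294, 190, 296, 174, 175, 300, 301]

/-- Right multiplication by the first stabiliser generator, chunk 9. -/
def hMulAChunk9 : List Nat := [177, 304, 179, 180, 308, 181, 309, 310, 312, 184, 315, 187, 318, 319, 189, 322, 191, 324, 325, 194, 195, 328, 196, 329, 330, 198]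

/-- Right multiplication by the first stabiliser generator, chunk 10. -/
def hMulAChunk10 : List Nat := [333, 217, 335, 201, 202, 339, 289, 204, 342, 206, 207, 346, 208, 347, 348, 350, 211, 353, 214, 356, 357, 216, 360, 218, 362, 363]

/-- Right multiplication by the first stabiliser generator, chunk 11. -/
def hMulAChunk11 : List Nat := [364, 366, 222, 266, 224, 225, 331, 372, 227, 375, 229, 377, 349, 379, 232, 233, 383, 384, 235, 387, 370, 358, 238, 240, 241, 337]

/-- Right multiplication by the first stabiliser generator, chunk 12. -/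
def hMulAChunk12 : List Nat := [242, 394, 395, 244, 398, 399, 246, 247, 345, 403, 249, 361, 251, 252, 409, 411, 255, 257, 258, 292, 416, 260, 381, 262, 419, 311]

/-- Right multiplication by the first stabiliser generator, chunk 13. -/
def hMulAChunk13 : List Nat := [421, 265, 423, 424, 268, 427, 414, 320, 271, 273, 274, 298, 275, 392, 433, 277, 373, 436, 279, 280, 307, 440, 282, 323, 284, 285]

/-- Right multiplication by the first stabiliser generator, chunk 14. -/
def hMulAChunk14 : List Nat := [286, 447, 287, 448, 449, 451, 306, 453, 293, 354, 393, 295, 458, 297, 461, 299, 462, 334, 464, 302, 303, 467, 468, 305, 471, 472]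

/-- Right multiplication by the first stabiliser generator, chunk 15. -/
def hMulAChunk15 : List Nat := [473, 474, 351, 374, 313, 314, 450, 480, 316, 317, 483, 463, 485, 321, 488, 489, 491, 478, 469, 326, 495, 327, 496, 497, 344, 499]

/-- Right multiplication by the first stabiliser generator, chunk 16. -/
def hMulAChunk16 : List Nat := [332, 432, 503, 336, 506, 338, 507, 340, 341, 481, 510, 343, 513, 452, 514, 515, 417, 352, 498, 519, 355, 521, 457, 523, 359, 526]

/-- Right multiplication by the first stabiliser generator, chunk 17. -/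
def hMulAChunk17 : List Nat := [527, 529, 476, 511, 520, 365, 367, 368, 396, 369, 429, 371, 501, 500, 539, 438, 376, 541, 534, 378, 380, 401, 382, 546, 548, 385]

/-- Right multiplication by the first stabiliser generator, chunk 18. -/
def hMulAChunk18 : List Nat := [386, 408, 551, 388, 389, 390, 391, 556, 444, 557, 407, 558, 397, 425, 494, 400, 563, 402, 564, 565, 404, 405, 568, 406, 570, 571]

/-- Right multiplication by the first stabiliser generator, chunk 19. -/
def hMulAChunk19 : List Nat := [482, 410, 412, 413, 434, 415, 455, 454, 542, 418, 552, 574, 420, 422, 559, 582, 426, 445, 561, 428, 430, 431, 586, 553, 566, 435]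

/-- Right multiplication by the first stabiliser generator, chunk 20. -/
def hMulAChunk20 : List Nat := [446, 437, 588, 439, 589, 567, 441, 442, 549, 443, 562, 591, 592, 593, 460, 595, 545, 598, 600, 456, 601, 459, 502, 603, 604, 536]

/-- Right multiplication by the first stabiliser generator, chunk 21. -/
def hMulAChunk21 : List Nat := [465, 594, 466, 528, 608, 470, 504, 517, 602, 607, 475, 477, 479, 508, 596, 512, 530, 484, 486, 487, 518, 525, 490, 623, 492, 493]

/-- Right multiplication by the first stabiliser generator, chunk 22. -/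
def hMulAChunk22 : List Nat := [626, 612, 505, 619, 629, 631, 605, 633, 634, 627, 509, 616, 632, 635, 516, 628, 522, 524, 640, 531, 532, 533, 547, 535, 560, 617]

/-- Right multiplication by the first stabiliser generator, chunk 23. -/
def hMulAChunk23 : List Nat := [537, 624, 538, 540, 554, 543, 544, 578, 625, 555, 550, 647, 622, 648, 573, 649, 620, 651, 583, 597, 652, 575, 614, 650, 610, 569]

/-- Right multiplication by the first stabiliser generator, chunk 24. -/
def hMulAChunk24 : List Nat := [599, 606, 572, 581, 587, 576, 641, 577, 584, 579, 580, 585, 656, 644, 657, 646, 590, 630, 654, 653, 637, 658, 639, 609, 611, 613]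

/-- Right multiplication by the first stabiliser generator, chunk 25. -/
def hMulAChunk25 : List Nat := [621, 615, 618, 643, 642, 659, 636, 638, 645, 655]

/-- Right multiplication by the first stabiliser generator by index. -/
def hMulA (i : Nat) : Nat := (([hMulAChunk0, hMulAChunk1, hMulAChunk2, hMulAChunk3, hMulAChunk4, hMulAChunk5, hMulAChunk6, hMulAChunk7, hMulAChunk8, hMulAChunk9, hMulAChunk10, hMulAChunk11, hMulAChunk12, hMulAChunk13, hMulAChunk14, hMulAChunk15, hMulAChunk16, hMulAChunk17, hMulAChunk18, hMulAChunk19, hMulAChunk20, hMulAChunk21, hMulAChunk22, hMulAChunk23, hMulAChunk24, hMulAChunk25] : List (List Nat)).getD (i / 26) []).getD (i % 26) 0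

/-- Right multiplication by the second stabiliser generator, chunk 0. -/
def hMulBChunk0 : List Nat := [2, 3, 5, 7, 8, 0, 10, 1, 13, 14, 16, 17, 18, 4, 21, 22, 6, 25, 27, 28, 29, 9, 32, 33, 34, 11]

/-- Right multiplication by the second stabiliser generator, chunk 1. -/
def hMulBChunk1 : List Nat := [36, 12, 39, 41, 42, 43, 15, 46, 48, 49, 51, 52, 53, 19, 55, 20, 58, 60, 61, 62, 23, 64, 24, 67, 68, 26]

/-- Right multiplication by the second stabiliser generator, chunk 2. -/
def hMulBChunk2 : List Nat := [71, 73, 74, 76, 77, 78, 30, 80, 31, 83, 85, 86, 88, 89, 90, 35, 93, 94, 95, 37, 97, 38, 100, 101, 40, 104]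

/-- Right multiplication by the second stabiliser generator, chunk 3. -/
def hMulBChunk3 : List Nat := [106, 107, 109, 110, 111, 44, 113, 45, 116, 117, 47, 120, 122, 123, 124, 50, 127, 129, 130, 132, 133, 134, 54, 137, 138, 139]

/-- Right multiplication by the second stabiliser generator, chunk 4. -/
def hMulBChunk4 : List Nat := [56, 141, 57, 144, 145, 59, 148, 150, 151, 153, 154, 155, 63, 158, 159, 160, 65, 162, 66, 165, 167, 168, 169, 69, 171, 70]

/-- Right multiplication by the second stabiliser generator, chunk 5. -/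
def hMulBChunk5 : List Nat := [174, 175, 72, 177, 179, 180, 181, 75, 184, 186, 187, 189, 190, 191, 79, 194, 195, 196, 81, 198, 82, 201, 202, 84, 204, 206]

/-- Right multiplication by the second stabiliser generator, chunk 6. -/
def hMulBChunk6 : List Nat := [207, 208, 87, 211, 213, 214, 216, 217, 218, 91, 219, 92, 222, 224, 225, 227, 228, 229, 96, 232, 233, 98, 235, 99, 238, 240]

/-- Right multiplication by the second stabiliser generator, chunk 7. -/
def hMulBChunk7 : List Nat := [241, 242, 102, 244, 103, 246, 247, 105, 249, 251, 252, 192, 108, 255, 257, 258, 260, 261, 262, 112, 265, 266, 114, 268, 115, 271]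

/-- Right multiplication by the second stabiliser generator, chunk 8. -/
def hMulBChunk8 : List Nat := [273, 274, 275, 118, 277, 119, 279, 280, 121, 282, 284, 285, 286, 287, 125, 289, 126, 292, 293, 128, 295, 297, 298, 299, 131, 302]

/-- Right multiplication by the second stabiliser generator, chunk 9. -/
def hMulBChunk9 : List Nat := [303, 305, 306, 307, 135, 308, 136, 311, 313, 314, 316, 317, 140, 320, 321, 142, 323, 143, 193, 326, 327, 146, 301, 147, 331, 332]

/-- Right multiplication by the second stabiliser generator, chunk 10. -/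
def hMulBChunk10 : List Nat := [149, 334, 336, 337, 338, 152, 340, 341, 343, 344, 345, 156, 346, 157, 349, 351, 352, 354, 355, 161, 358, 359, 163, 361, 164, 166]

/-- Right multiplication by the second stabiliser generator, chunk 11. -/
def hMulBChunk11 : List Nat := [365, 367, 368, 369, 370, 371, 170, 373, 374, 172, 376, 173, 378, 380, 381, 382, 176, 385, 386, 178, 388, 389, 390, 391, 392, 182]

/-- Right multiplication by the second stabiliser generator, chunk 12. -/
def hMulBChunk12 : List Nat := [393, 183, 396, 397, 185, 400, 401, 402, 188, 404, 405, 406, 407, 408, 410, 412, 413, 414, 415, 197, 398, 417, 199, 418, 200, 420]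

/-- Right multiplication by the second stabiliser generator, chunk 13. -/
def hMulBChunk13 : List Nat := [422, 375, 203, 425, 426, 205, 428, 429, 430, 431, 394, 209, 432, 210, 434, 435, 212, 437, 438, 439, 215, 441, 442, 443, 444, 445]

/-- Right multiplication by the second stabiliser generator, chunk 14. -/
def hMulBChunk14 : List Nat := [446, 220, 403, 221, 450, 223, 452, 454, 455, 226, 456, 457, 459, 460, 230, 461, 231, 463, 256, 465, 466, 234, 469, 470, 236, 237]

/-- Right multiplication by the second stabiliser generator, chunk 15. -/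
def hMulBChunk15 : List Nat := [239, 475, 476, 477, 478, 479, 243, 481, 259, 482, 245, 484, 486, 487, 248, 490, 250, 492, 493, 494, 253, 440, 254, 498, 472, 500]

/-- Right multiplication by the second stabiliser generator, chunk 16. -/
def hMulBChunk16 : List Nat := [501, 502, 504, 505, 263, 506, 264, 508, 509, 267, 511, 512, 269, 270, 272, 516, 517, 518, 276, 467, 520, 278, 522, 524, 525, 281]

/-- Right multiplication by the second stabiliser generator, chunk 17. -/
def hMulBChunk17 : List Nat := [528, 283, 530, 531, 532, 533, 534, 535, 288, 536, 290, 537, 291, 538, 294, 339, 540, 296, 542, 543, 544, 300, 545, 547, 549, 353]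

/-- Right multiplication by the second stabiliser generator, chunk 18. -/
def hMulBChunk18 : List Nat := [550, 304, 552, 553, 329, 554, 555, 309, 310, 312, 348, 559, 560, 315, 561, 562, 318, 563, 319, 366, 566, 567, 322, 569, 324, 325]

/-- Right multiplication by the second stabiliser generator, chunk 19. -/
def hMulBChunk19 : List Nat := [572, 573, 574, 575, 328, 576, 330, 577, 333, 578, 335, 539, 579, 580, 581, 568, 583, 342, 541, 557, 584, 585, 347, 350, 546, 587]

/-- Right multiplication by the second stabiliser generator, chunk 20. -/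
def hMulBChunk20 : List Nat := [551, 570, 356, 588, 357, 411, 558, 565, 360, 590, 362, 363, 364, 594, 571, 596, 597, 599, 372, 419, 602, 427, 377, 379, 605, 606]

/-- Right multiplication by the second stabiliser generator, chunk 21. -/
def hMulBChunk21 : List Nat := [433, 383, 607, 384, 609, 436, 387, 610, 611, 612, 613, 614, 615, 395, 616, 399, 617, 618, 619, 620, 621, 622, 424, 624, 625, 448]

/-- Right multiplication by the second stabiliser generator, chunk 22. -/
def hMulBChunk22 : List Nat := [409, 627, 591, 628, 630, 416, 632, 421, 601, 423, 635, 636, 637, 593, 638, 608, 639, 595, 641, 496, 631, 515, 447, 642, 449, 451]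

/-- Right multiplication by the second stabiliser generator, chunk 23. -/
def hMulBChunk23 : List Nat := [643, 453, 644, 507, 458, 645, 646, 462, 464, 623, 519, 468, 471, 473, 474, 650, 513, 526, 480, 483, 485, 653, 527, 488, 489, 548]

/-- Right multiplication by the second stabiliser generator, chunk 24. -/
def hMulBChunk24 : List Nat := [491, 521, 600, 495, 497, 654, 499, 648, 503, 655, 652, 640, 510, 514, 651, 523, 582, 529, 589, 658, 626, 656, 649, 633, 592, 604]

/-- Right multiplication by the second stabiliser generator, chunk 25. -/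
def hMulBChunk25 : List Nat := [556, 586, 657, 564, 659, 647, 603, 634, 598, 629]

/-- Right multiplication by the second stabiliser generator by index. -/
def hMulB (i : Nat) : Nat := (([hMulBChunk0, hMulBChunk1, hMulBChunk2, hMulBChunk3, hMulBChunk4, hMulBChunk5, hMulBChunk6, hMulBChunk7, hMulBChunk8, hMulBChunk9, hMulBChunk10, hMulBChunk11, hMulBChunk12, hMulBChunk13, hMulBChunk14, hMulBChunk15, hMulBChunk16, hMulBChunk17, hMulBChunk18, hMulBChunk19, hMulBChunk20, hMulBChunk21, hMulBChunk22, hMulBChunk23, hMulBChunk24, hMulBChunk25] : List (List Nat)).getD (i / 26) []).getD (i % 26) 0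

/-- Spanning tree of the stabiliser, chunk 0. -/
def hParChunk0 : List (Nat × Nat) := [(0, 0), (0, 0), (0, 1), (1, 1), (2, 0), (2, 1), (3, 0), (3, 1), (4, 1), (5, 0), (6, 1), (7, 0), (8, 0), (8, 1), (9, 1), (10, 0), (10, 1), (11, 1), (12, 1), (13, 0), (14, 0), (14, 1), (15, 1), (16, 0), (17, 0), (17, 1)]

/-- Spanning tree of the stabiliser, chunk 1. -/
def hParChunk1 : List (Nat × Nat) := [(18, 0), (18, 1), (19, 1), (20, 1), (21, 0), (22, 0), (22, 1), (23, 1), (24, 1), (25, 0), (26, 1), (27, 0), (28, 0), (28, 1), (29, 0), (29, 1), (30, 1), (31, 1), (32, 0), (33, 0), (33, 1), (34, 0), (34, 1), (35, 1), (36, 0), (36, 1)]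

/-- Spanning tree of the stabiliser, chunk 2. -/
def hParChunk2 : List (Nat × Nat) := [(37, 1), (38, 1), (39, 0), (40, 1), (41, 0), (42, 0), (42, 1), (43, 0), (43, 1), (44, 1), (45, 1), (46, 0), (47, 1), (48, 0), (49, 0), (49, 1), (50, 1), (51, 0), (52, 0), (52, 1), (53, 0), (53, 1), (54, 1), (55, 0), (55, 1), (56, 1)]

/-- Spanning tree of the stabiliser, chunk 3. -/
def hParChunk3 : List (Nat × Nat) := [(57, 1), (58, 0), (59, 1), (60, 0), (61, 0), (61, 1), (62, 0), (62, 1), (63, 1), (64, 0), (64, 1), (65, 1), (66, 1), (67, 0), (68, 0), (68, 1), (69, 1), (70, 1), (71, 0), (72, 1), (73, 0), (74, 0), (74, 1), (75, 1), (76, 0), (77, 0)]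

/-- Spanning tree of the stabiliser, chunk 4. -/
def hParChunk4 : List (Nat × Nat) := [(77, 1), (78, 0), (78, 1), (79, 1), (80, 0), (80, 1), (81, 1), (82, 1), (83, 0), (84, 1), (85, 0), (86, 0), (86, 1), (87, 1), (88, 0), (89, 0), (89, 1), (90, 0), (90, 1), (91, 1), (92, 1), (93, 0), (94, 0), (94, 1), (95, 0), (95, 1)]

/-- Spanning tree of the stabiliser, chunk 5. -/
def hParChunk5 : List (Nat × Nat) := [(96, 1), (97, 0), (97, 1), (98, 1), (99, 1), (100, 0), (101, 0), (101, 1), (102, 1), (103, 1), (104, 0), (105, 1), (106, 0), (107, 0), (107, 1), (108, 1), (109, 0), (110, 0), (110, 1), (111, 0), (111, 1), (112, 1), (113, 0), (113, 1), (114, 1), (115, 1)]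

/-- Spanning tree of the stabiliser, chunk 6. -/
def hParChunk6 : List (Nat × Nat) := [(116, 0), (117, 0), (117, 1), (118, 1), (119, 1), (120, 0), (121, 1), (122, 0), (123, 0), (123, 1), (124, 0), (124, 1), (125, 1), (126, 1), (127, 0), (128, 1), (129, 0), (130, 0), (130, 1), (131, 1), (132, 0), (133, 1), (134, 0), (134, 1), (135, 1), (136, 1)]

/-- Spanning tree of the stabiliser, chunk 7. -/
def hParChunk7 : List (Nat × Nat) := [(137, 0), (138, 0), (138, 1), (139, 0), (139, 1), (140, 1), (141, 0), (141, 1), (142, 1), (143, 1), (144, 0), (145, 0), (145, 1), (146, 1), (147, 1), (148, 0), (149, 1), (150, 0), (151, 0), (151, 1), (152, 1), (153, 0), (154, 1), (155, 0), (155, 1), (156, 1)]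

/-- Spanning tree of the stabiliser, chunk 8. -/
def hParChunk8 : List (Nat × Nat) := [(157, 1), (158, 0), (159, 0), (159, 1), (160, 0), (160, 1), (161, 1), (162, 0), (162, 1), (163, 1), (164, 1), (165, 0), (167, 0), (168, 0), (168, 1), (169, 0), (169, 1), (170, 1), (171, 0), (171, 1), (172, 1), (173, 1), (174, 0), (175, 0), (175, 1), (176, 1)]

/-- Spanning tree of the stabiliser, chunk 9. -/
def hParChunk9 : List (Nat × Nat) := [(177, 0), (178, 1), (179, 0), (180, 0), (180, 1), (181, 0), (181, 1), (182, 1), (183, 1), (184, 0), (185, 1), (187, 0), (187, 1), (188, 1), (189, 0), (190, 1), (191, 0), (191, 1), (192, 1), (194, 0), (195, 0), (195, 1), (196, 0), (196, 1), (197, 1), (198, 0)]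

/-- Spanning tree of the stabiliser, chunk 10. -/
def hParChunk10 : List (Nat × Nat) := [(198, 1), (199, 1), (200, 1), (201, 0), (202, 0), (202, 1), (203, 1), (204, 0), (205, 1), (206, 0), (207, 0), (207, 1), (208, 0), (208, 1), (209, 1), (210, 1), (211, 0), (212, 1), (214, 0), (214, 1), (215, 1), (216, 0), (217, 1), (218, 0), (218, 1), (219, 1)]

/-- Spanning tree of the stabiliser, chunk 11. -/
def hParChunk11 : List (Nat × Nat) := [(220, 1), (221, 1), (222, 0), (223, 1), (224, 0), (225, 0), (225, 1), (226, 1), (227, 0), (228, 1), (229, 0), (229, 1), (230, 1), (231, 1), (232, 0), (233, 0), (233, 1), (234, 1), (235, 0), (235, 1), (236, 1), (237, 1), (238, 0), (240, 0), (241, 0), (241, 1)]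

/-- Spanning tree of the stabiliser, chunk 12. -/
def hParChunk12 : List (Nat × Nat) := [(242, 0), (242, 1), (243, 1), (244, 0), (244, 1), (245, 1), (246, 0), (247, 0), (247, 1), (248, 1), (249, 0), (250, 1), (251, 0), (252, 0), (253, 1), (254, 1), (255, 0), (257, 0), (258, 0), (258, 1), (259, 1), (260, 0), (261, 1), (262, 0), (262, 1), (263, 1)]

/-- Spanning tree of the stabiliser, chunk 13. -/
def hParChunk13 : List (Nat × Nat) := [(264, 1), (265, 0), (266, 1), (267, 1), (268, 0), (268, 1), (269, 1), (270, 1), (271, 0), (273, 0), (274, 0), (274, 1), (275, 0), (275, 1), (276, 1), (277, 0), (277, 1), (278, 1), (279, 0), (280, 0), (280, 1), (281, 1), (282, 0), (283, 1), (284, 0), (285, 0)]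

/-- Spanning tree of the stabiliser, chunk 14. -/
def hParChunk14 : List (Nat × Nat) := [(286, 0), (286, 1), (287, 0), (287, 1), (288, 1), (289, 1), (290, 1), (291, 1), (293, 0), (293, 1), (294, 1), (295, 0), (296, 1), (297, 0), (298, 1), (299, 0), (299, 1), (300, 1), (301, 1), (302, 0), (303, 0), (303, 1), (304, 1), (305, 0), (306, 1), (307, 1)]

/-- Spanning tree of the stabiliser, chunk 15. -/
def hParChunk15 : List (Nat × Nat) := [(308, 1), (309, 1), (310, 1), (312, 1), (313, 0), (314, 0), (314, 1), (315, 1), (316, 0), (317, 0), (317, 1), (318, 1), (319, 1), (321, 0), (321, 1), (322, 1), (323, 1), (324, 1), (325, 1), (326, 0), (326, 1), (327, 0), (327, 1), (328, 1), (329, 1), (330, 1)]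

/-- Spanning tree of the stabiliser, chunk 16. -/
def hParChunk16 : List (Nat × Nat) := [(332, 0), (333, 1), (335, 1), (336, 0), (337, 1), (338, 0), (338, 1), (340, 0), (341, 0), (341, 1), (342, 1), (343, 0), (344, 1), (345, 1), (346, 1), (347, 1), (350, 1), (352, 0), (352, 1), (353, 1), (355, 0), (355, 1), (356, 1), (357, 1), (359, 0), (359, 1)]

/-- Spanning tree of the stabiliser, chunk 17. -/
def hParChunk17 : List (Nat × Nat) := [(360, 1), (361, 1), (362, 1), (363, 1), (364, 1), (365, 0), (367, 0), (368, 0), (368, 1), (369, 0), (370, 1), (371, 0), (371, 1), (372, 1), (374, 1), (375, 1), (376, 0), (376, 1), (377, 1), (378, 0), (380, 0), (381, 1), (382, 0), (383, 1), (384, 1), (385, 0)]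

/-- Spanning tree of the stabiliser, chunk 18. -/
def hParChunk18 : List (Nat × Nat) := [(386, 0), (386, 1), (387, 1), (388, 0), (389, 0), (390, 0), (391, 0), (391, 1), (392, 1), (393, 1), (394, 1), (395, 1), (397, 0), (397, 1), (399, 1), (400, 0), (401, 1), (402, 0), (402, 1), (403, 1), (404, 0), (405, 0), (405, 1), (406, 0), (407, 1), (408, 1)]

/-- Spanning tree of the stabiliser, chunk 19. -/
def hParChunk19 : List (Nat × Nat) := [(409, 1), (410, 0), (412, 0), (413, 0), (413, 1), (415, 0), (415, 1), (416, 1), (417, 1), (418, 0), (418, 1), (419, 1), (420, 0), (422, 0), (423, 1), (424, 1), (426, 0), (426, 1), (427, 1), (428, 0), (430, 0), (431, 0), (431, 1), (432, 1), (433, 1), (435, 0)]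

/-- Spanning tree of the stabiliser, chunk 20. -/
def hParChunk20 : List (Nat × Nat) := [(436, 1), (437, 0), (438, 1), (439, 0), (439, 1), (440, 1), (441, 0), (442, 0), (442, 1), (443, 0), (444, 1), (445, 1), (446, 1), (447, 1), (448, 1), (449, 1), (451, 1), (453, 1), (455, 1), (456, 0), (458, 1), (459, 0), (460, 1), (461, 1), (462, 1), (464, 1)]

/-- Spanning tree of the stabiliser, chunk 21. -/
def hParChunk21 : List (Nat × Nat) := [(465, 0), (465, 1), (466, 0), (466, 1), (468, 1), (470, 0), (470, 1), (471, 1), (473, 1), (474, 1), (475, 0), (477, 0), (479, 0), (479, 1), (480, 1), (482, 1), (483, 1), (484, 0), (486, 0), (487, 0), (488, 1), (489, 1), (490, 0), (491, 1), (492, 0), (493, 0)]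

/-- Spanning tree of the stabiliser, chunk 22. -/
def hParChunk22 : List (Nat × Nat) := [(494, 1), (495, 1), (496, 1), (497, 1), (499, 1), (501, 1), (503, 1), (506, 1), (507, 1), (508, 1), (509, 0), (510, 1), (514, 1), (515, 1), (516, 0), (519, 1), (522, 0), (524, 0), (529, 1), (531, 0), (532, 0), (533, 0), (533, 1), (535, 0), (535, 1), (536, 1)]

/-- Spanning tree of the stabiliser, chunk 23. -/
def hParChunk23 : List (Nat × Nat) := [(537, 0), (537, 1), (538, 0), (540, 0), (540, 1), (543, 0), (544, 0), (544, 1), (545, 1), (548, 1), (550, 0), (550, 1), (553, 1), (554, 1), (555, 1), (556, 1), (557, 1), (558, 1), (560, 1), (562, 1), (563, 1), (564, 1), (565, 1), (566, 1), (567, 1), (569, 0)]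

/-- Spanning tree of the stabiliser, chunk 24. -/
def hParChunk24 : List (Nat × Nat) := [(569, 1), (570, 1), (572, 0), (573, 1), (575, 1), (576, 0), (576, 1), (577, 0), (578, 1), (579, 0), (580, 0), (582, 1), (583, 1), (584, 1), (586, 1), (588, 1), (590, 0), (590, 1), (595, 1), (598, 1), (600, 1), (603, 1), (604, 1), (609, 0), (611, 0), (613, 0)]

/-- Spanning tree of the stabiliser, chunk 25. -/
def hParChunk25 : List (Nat × Nat) := [(613, 1), (615, 0), (618, 0), (619, 1), (629, 1), (633, 1), (636, 0), (638, 0), (643, 1), (654, 1)]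

/-- Spanning tree of the stabiliser by index. -/
def hPar (i : Nat) : (Nat × Nat) := (([hParChunk0, hParChunk1, hParChunk2, hParChunk3, hParChunk4, hParChunk5, hParChunk6, hParChunk7, hParChunk8, hParChunk9, hParChunk10, hParChunk11, hParChunk12, hParChunk13, hParChunk14, hParChunk15, hParChunk16, hParChunk17, hParChunk18, hParChunk19, hParChunk20, hParChunk21, hParChunk22, hParChunk23, hParChunk24, hParChunk25] : List (List (Nat × Nat))).getD (i / 26) []).getD (i % 26) (0, 0)

/-- Inverses, chunk 0. -/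
def hInvChunk0 : List Nat := [0, 1, 5, 9, 7, 2, 11, 4, 21, 3, 30, 6, 25, 13, 14, 35, 19, 20, 58, 16, 17, 8, 79, 23, 24, 12]

/-- Inverses, chunk 1. -/
def hInvChunk1 : List Nat := [67, 39, 41, 42, 10, 91, 54, 56, 57, 15, 144, 46, 48, 27, 49, 28, 29, 192, 63, 65, 37, 66, 38, 40, 165, 100]

/-- Inverses, chunk 2. -/
def hInvChunk2 : List Nat := [104, 106, 32, 107, 33, 34, 18, 219, 135, 140, 142, 44, 143, 45, 47, 26, 193, 116, 120, 71, 122, 73, 76, 123, 74, 77]

/-- Inverses, chunk 3. -/
def hInvChunk3 : List Nat := [78, 22, 145, 156, 161, 96, 163, 98, 102, 164, 99, 103, 105, 31, 166, 238, 246, 249, 83, 251, 85, 88, 51, 252, 86, 89]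

/-- Inverses, chunk 4. -/
def hInvChunk4 : List Nat := [52, 90, 53, 55, 124, 308, 318, 322, 112, 324, 114, 118, 69, 325, 115, 119, 70, 121, 72, 75, 108, 271, 279, 174, 282, 177]

/-- Inverses, chunk 5. -/
def hInvChunk5 : List Nat := [184, 284, 179, 186, 189, 60, 285, 180, 187, 190, 61, 191, 62, 64, 36, 80, 346, 356, 230, 360, 234, 243, 362, 236, 213, 248]

/-- Inverses, chunk 6. -/
def hInvChunk6 : List Nat := [81, 363, 237, 245, 228, 82, 250, 84, 87, 50, 92, 239, 484, 490, 201, 492, 204, 211, 127, 493, 206, 129, 216, 132, 137, 194]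

/-- Inverses, chunk 7. -/
def hInvChunk7 : List Nat := [207, 214, 130, 217, 133, 138, 218, 134, 139, 141, 43, 68, 181, 563, 568, 263, 570, 267, 276, 170, 571, 269, 172, 281, 176, 182]

/-- Inverses, chunk 8. -/
def hInvChunk8 : List Nat := [253, 270, 278, 173, 261, 154, 183, 283, 178, 185, 188, 59, 272, 522, 378, 528, 385, 396, 530, 388, 160, 404, 148, 531, 389, 400]

/-- Inverses, chunk 9. -/
def hInvChunk9 : List Nat := [150, 406, 153, 158, 93, 167, 390, 401, 405, 151, 407, 159, 94, 408, 155, 95, 162, 97, 101, 208, 588, 461, 549, 467, 450, 562]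

/-- Inverses, chunk 10. -/
def hInvChunk10 : List Nat := [471, 212, 488, 197, 591, 472, 483, 199, 491, 203, 209, 125, 220, 473, 463, 489, 200, 478, 210, 126, 469, 205, 128, 215, 131, 136]

/-- Inverses, chunk 11. -/
def hInvChunk11 : List Nat := [485, 509, 420, 521, 425, 434, 292, 534, 428, 295, 441, 302, 311, 410, 429, 437, 297, 313, 443, 305, 316, 320, 109, 430, 438, 298]

/-- Inverses, chunk 12. -/
def hInvChunk12 : List Nat := [442, 303, 314, 444, 306, 321, 110, 445, 307, 317, 111, 323, 113, 117, 402, 582, 506, 481, 498, 331, 460, 513, 375, 526, 383, 337]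

/-- Inverses, chunk 13. -/
def hInvChunk13 : List Nat := [495, 452, 377, 394, 529, 387, 398, 345, 146, 514, 457, 349, 527, 384, 395, 476, 370, 403, 147, 511, 358, 399, 149, 361, 152, 157]

/-- Inverses, chunk 14. -/
def hInvChunk14 : List Nat := [523, 379, 466, 435, 368, 610, 354, 621, 574, 414, 617, 334, 624, 340, 222, 365, 611, 381, 622, 336, 351, 224, 386, 343, 227, 232]

/-- Inverses, chunk 15. -/
def hInvChunk15 : List Nat := [240, 618, 424, 625, 341, 352, 225, 448, 344, 359, 233, 241, 326, 355, 229, 242, 235, 244, 247, 439, 299, 548, 519, 449, 373, 650]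

/-- Inverses, chunk 16. -/
def hInvChunk16 : List Nat := [505, 597, 599, 423, 288, 447, 648, 419, 392, 290, 468, 427, 294, 300, 309, 652, 606, 433, 291, 367, 440, 301, 310, 409, 436, 296]

/-- Inverses, chunk 17. -/
def hInvChunk17 : List Nat := [312, 304, 315, 319, 640, 421, 397, 413, 258, 614, 339, 615, 547, 627, 542, 348, 641, 552, 332, 255, 637, 274, 620, 559, 366, 257]

/-- Inverses, chunk 18. -/
def hInvChunk18 : List Nat := [426, 280, 561, 260, 265, 273, 639, 543, 353, 553, 277, 566, 496, 329, 569, 266, 168, 286, 554, 567, 262, 275, 169, 268, 171, 175]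

/-- Inverses, chunk 19. -/
def hInvChunk19 : List Nat := [590, 338, 480, 497, 330, 651, 594, 581, 502, 630, 504, 416, 328, 644, 508, 287, 510, 357, 512, 333, 347, 646, 603, 517, 518, 412]

/-- Inverses, chunk 20. -/
def hInvChunk20 : List Nat := [623, 289, 221, 364, 602, 525, 335, 350, 223, 342, 226, 231, 608, 596, 293, 613, 536, 537, 631, 539, 609, 541, 456, 475, 634, 545]

/-- Inverses, chunk 21. -/
def hInvChunk21 : List Nat := [546, 454, 411, 256, 572, 551, 459, 477, 486, 635, 579, 557, 558, 465, 573, 470, 259, 195, 584, 565, 479, 487, 196, 482, 198, 202]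

/-- Inverses, chunk 22. -/
def hInvChunk22 : List Nat := [550, 560, 372, 649, 598, 577, 647, 556, 580, 501, 327, 626, 564, 585, 633, 612, 254, 632, 494, 264, 616, 628, 500, 638, 533, 417]

/-- Inverses, chunk 23. -/
def hInvChunk23 : List Nat := [576, 418, 600, 636, 524, 516, 604, 656, 432, 607, 532, 540, 369, 380, 587, 535, 451, 453, 592, 374, 391, 657, 464, 371, 382, 520]

/-- Inverses, chunk 24. -/
def hInvChunk24 : List Nat := [376, 393, 583, 455, 593, 629, 503, 538, 589, 586, 544, 555, 601, 462, 595, 474, 446, 458, 658, 655, 507, 653, 515, 578, 422, 575]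

/-- Inverses, chunk 25. -/
def hInvChunk25 : List Nat := [415, 499, 431, 645, 659, 643, 605, 619, 642, 654]

/-- Inverses by index. -/
def hInv (i : Nat) : Nat := (([hInvChunk0, hInvChunk1, hInvChunk2, hInvChunk3, hInvChunk4, hInvChunk5, hInvChunk6, hInvChunk7, hInvChunk8, hInvChunk9, hInvChunk10, hInvChunk11, hInvChunk12, hInvChunk13, hInvChunk14, hInvChunk15, hInvChunk16, hInvChunk17, hInvChunk18, hInvChunk19, hInvChunk20, hInvChunk21, hInvChunk22, hInvChunk23, hInvChunk24, hInvChunk25] : List (List Nat)).getD (i / 26) []).getD (i % 26) 0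

/-- Spanning tree of the cosets, chunk 0. -/
def tParChunk0 : List (Nat × Nat) := [(0, 0), (0, 0), (0, 1), (1, 0), (1, 1), (2, 0), (2, 1), (3, 0), (3, 1), (4, 0), (4, 1), (5, 0), (5, 1), (6, 0), (6, 1), (7, 0), (7, 1), (8, 1), (9, 0), (9, 1), (10, 0), (10, 1), (11, 0), (11, 1), (12, 0), (12, 1)]

/-- Spanning tree of the cosets, chunk 1. -/
def tParChunk1 : List (Nat × Nat) := [(13, 0), (13, 1), (14, 0), (14, 1), (15, 0), (16, 1), (17, 0), (17, 1), (18, 0), (18, 1), (19, 0), (19, 1), (20, 0), (20, 1), (21, 0), (21, 1), (22, 0), (22, 1), (23, 1), (24, 0), (24, 1), (25, 0), (25, 1), (26, 0), (26, 1), (27, 0)]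

/-- Spanning tree of the cosets, chunk 2. -/
def tParChunk2 : List (Nat × Nat) := [(27, 1), (28, 0), (28, 1), (29, 0), (30, 0), (31, 0), (31, 1), (32, 0), (32, 1), (33, 0), (33, 1), (34, 0), (34, 1), (35, 0), (35, 1), (36, 0), (36, 1), (37, 0), (37, 1), (38, 0), (38, 1), (39, 0), (39, 1), (40, 0), (40, 1), (41, 0)]

/-- Spanning tree of the cosets, chunk 3. -/
def tParChunk3 : List (Nat × Nat) := [(42, 0), (43, 0), (43, 1), (44, 0), (44, 1), (45, 0), (45, 1), (46, 0), (47, 0), (48, 0), (48, 1), (49, 0), (49, 1), (50, 0), (50, 1), (51, 0), (51, 1), (52, 1), (53, 0), (53, 1), (54, 0), (55, 0), (55, 1), (57, 0), (58, 0), (59, 0)]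

/-- Spanning tree of the cosets, chunk 4. -/
def tParChunk4 : List (Nat × Nat) := [(60, 0), (61, 0), (61, 1), (62, 0), (63, 1), (64, 0), (64, 1), (65, 0), (65, 1), (66, 0), (66, 1), (67, 0), (67, 1), (68, 0), (68, 1), (69, 0), (69, 1), (70, 1), (71, 0), (71, 1), (72, 0), (73, 0), (74, 0), (75, 0), (75, 1), (76, 0)]

/-- Spanning tree of the cosets, chunk 5. -/
def tParChunk5 : List (Nat × Nat) := [(76, 1), (77, 0), (78, 0), (79, 1), (80, 1), (81, 0), (81, 1), (82, 0), (83, 0), (83, 1), (84, 0), (84, 1), (85, 0), (85, 1), (86, 0), (86, 1), (89, 0), (89, 1), (90, 0), (90, 1), (91, 0), (92, 0), (92, 1), (95, 0), (95, 1), (96, 0)]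

/-- Spanning tree of the cosets, chunk 6. -/
def tParChunk6 : List (Nat × Nat) := [(96, 1), (97, 0), (97, 1), (98, 1), (99, 0), (100, 0), (100, 1), (101, 0), (101, 1), (102, 0), (103, 0), (104, 0), (108, 1), (109, 0), (109, 1), (110, 1), (111, 0), (112, 0), (113, 0), (113, 1), (115, 0), (115, 1), (116, 1), (117, 0), (118, 0), (120, 0)]

/-- Spanning tree of the cosets, chunk 7. -/
def tParChunk7 : List (Nat × Nat) := [(120, 1), (121, 0), (122, 0), (122, 1), (123, 1), (124, 0), (125, 1), (129, 0), (130, 0), (131, 1), (132, 1), (133, 0), (135, 0), (135, 1), (136, 0), (137, 0), (138, 0), (138, 1), (139, 0), (140, 1), (141, 0), (142, 0), (142, 1), (143, 0), (144, 1), (147, 0)]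

/-- Spanning tree of the cosets, chunk 8. -/
def tParChunk8 : List (Nat × Nat) := [(147, 1), (148, 1), (149, 0), (150, 0), (153, 0), (153, 1), (154, 0), (155, 0), (156, 0), (156, 1), (157, 0), (158, 0), (159, 0), (163, 1), (164, 0), (164, 1), (166, 1), (167, 1), (169, 0), (171, 0), (173, 1), (174, 1), (175, 0), (176, 0), (176, 1), (178, 1)]

/-- Spanning tree of the cosets, chunk 9. -/
def tParChunk9 : List (Nat × Nat) := [(182, 1), (184, 0), (184, 1), (185, 1), (187, 0), (187, 1), (188, 0), (188, 1), (189, 0), (191, 1), (192, 0), (192, 1), (193, 0), (193, 1), (195, 0), (198, 1), (199, 0), (203, 0), (206, 0), (208, 1), (210, 1), (215, 0), (221, 0), (222, 0), (223, 1), (224, 0)]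

/-- Spanning tree of the cosets, chunk 10. -/
def tParChunk10 : List (Nat × Nat) := [(231, 0), (236, 0), (238, 1), (239, 0), (242, 1), (245, 1)]

/-- Spanning tree of the cosets by index. -/
def tPar (i : Nat) : (Nat × Nat) := (([tParChunk0, tParChunk1, tParChunk2, tParChunk3, tParChunk4, tParChunk5, tParChunk6, tParChunk7, tParChunk8, tParChunk9, tParChunk10] : List (List (Nat × Nat))).getD (i / 26) []).getD (i % 26) (0, 0)

/-- Cosets times X, chunk 0. -/
def stepXChunk0 : List (Nat × Nat) := [(0, 1), (0, 3), (0, 5), (0, 7), (0, 9), (0, 11), (0, 13), (0, 15), (114, 4), (0, 18), (0, 20), (0, 22), (0, 24), (0, 26), (0, 28), (0, 30), (604, 8), (0, 32), (0, 34), (0, 36), (0, 38), (0, 40), (0, 42), (433, 12), (0, 45), (0, 47)]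

/-- Cosets times X, chunk 1. -/
def stepXChunk1 : List (Nat × Nat) := [(0, 49), (0, 51), (0, 53), (0, 55), (0, 56), (0, 57), (0, 59), (0, 61), (0, 63), (0, 65), (0, 67), (0, 69), (0, 71), (0, 73), (0, 75), (0, 77), (0, 78), (0, 79), (0, 81), (0, 83), (0, 85), (0, 86), (0, 87), (0, 89), (0, 91), (0, 93)]

/-- Cosets times X, chunk 2. -/
def stepXChunk2 : List (Nat × Nat) := [(481, 74), (0, 96), (0, 98), (0, 99), (0, 0), (0, 101), (0, 102), (0, 103), (0, 104), (0, 105), (0, 107), (551, 16), (0, 109), (0, 111), (0, 113), (0, 115), (0, 117), (0, 119), (59, 39), (0, 122), (0, 124), (0, 125), (0, 126), (0, 127), (0, 129), (0, 131)]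

/-- Cosets times X, chunk 3. -/
def stepXChunk3 : List (Nat × Nat) := [(0, 132), (551, 100), (218, 123), (0, 135), (0, 137), (0, 138), (0, 140), (0, 142), (0, 144), (642, 139), (604, 121), (0, 146), (0, 148), (0, 150), (0, 151), (606, 92), (148, 64), (0, 153), (0, 155), (0, 157), (308, 110), (0, 160), (0, 161), (0, 163), (0, 165), (0, 166)]

/-- Cosets times X, chunk 4. -/
def stepXChunk4 : List (Nat × Nat) := [(0, 167), (281, 97), (274, 149), (292, 29), (230, 52), (0, 169), (397, 158), (0, 172), (0, 173), (0, 174), (353, 82), (0, 176), (403, 128), (0, 179), (0, 180), (418, 130), (0, 181), (0, 183), (0, 184), (340, 76), (0, 187), (188, 133), (63, 164), (372, 68), (377, 72), (0, 189)]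

/-- Cosets times X, chunk 5. -/
def stepXChunk5 : List (Nat × Nat) := [(0, 190), (355, 177), (0, 2), (0, 193), (274, 120), (0, 194), (0, 196), (0, 197), (0, 198), (0, 200), (52, 136), (0, 202), (0, 203), (0, 205), (324, 95), (324, 44), (242, 191), (0, 207), (551, 54), (0, 210), (0, 211), (46, 156), (134, 58), (0, 212), (0, 214), (0, 215)]

/-- Cosets times X, chunk 6. -/
def stepXChunk6 : List (Nat × Nat) := [(0, 216), (0, 218), (0, 219), (0, 220), (596, 209), (405, 192), (67, 118), (173, 217), (0, 222), (651, 88), (499, 221), (333, 106), (350, 206), (0, 226), (124, 60), (0, 227), (133, 208), (407, 199), (407, 84), (0, 230), (0, 231), (422, 134), (1, 80), (574, 21), (556, 233), (590, 41)]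

/-- Cosets times X, chunk 7. -/
def stepXChunk7 : List (Nat × Nat) := [(387, 43), (554, 152), (0, 235), (181, 234), (332, 116), (0, 238), (0, 240), (0, 242), (40, 185), (405, 6), (0, 244), (0, 246), (486, 229), (0, 248), (417, 66), (516, 241), (433, 23), (0, 250), (114, 175), (552, 213), (658, 46), (0, 251), (615, 247), (324, 94), (0, 252), (572, 224)]

/-- Cosets times X, chunk 8. -/
def stepXChunk8 : List (Nat × Nat) := [(578, 188), (463, 62), (403, 170), (533, 159), (113, 25), (203, 253), (486, 114), (0, 255), (551, 27), (231, 204), (292, 243), (37, 90), (405, 254), (0, 256), (0, 257), (86, 249), (0, 259), (66, 171), (293, 143), (355, 147), (215, 48), (650, 258), (338, 228), (0, 260), (574, 236), (654, 239)]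

/-- Cosets times X, chunk 9. -/
def stepXChunk9 : List (Nat × Nat) := [(645, 37), (0, 10), (0, 261), (219, 232), (545, 186), (0, 263), (372, 35), (471, 154), (489, 178), (513, 33), (655, 182), (75, 237), (655, 70), (655, 31), (425, 223), (642, 201), (534, 168), (642, 141), (114, 112), (443, 195), (126, 50), (0, 14), (651, 17), (405, 108), (206, 145), (504, 225)]

/-- Cosets times X, chunk 10. -/
def stepXChunk10 : List (Nat × Nat) := [(0, 19), (541, 262), (611, 264), (359, 265), (569, 245), (391, 162)]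

/-- Cosets times X by index. -/
def stepX (i : Nat) : (Nat × Nat) := (([stepXChunk0, stepXChunk1, stepXChunk2, stepXChunk3, stepXChunk4, stepXChunk5, stepXChunk6, stepXChunk7, stepXChunk8, stepXChunk9, stepXChunk10] : List (List (Nat × Nat))).getD (i / 26) []).getD (i % 26) (0, 0)

/-- Cosets times Y, chunk 0. -/
def stepYChunk0 : List (Nat × Nat) := [(0, 2), (0, 4), (0, 6), (0, 8), (0, 10), (0, 12), (0, 14), (0, 16), (0, 17), (0, 19), (0, 21), (0, 23), (0, 25), (0, 27), (0, 29), (604, 22), (0, 31), (0, 33), (0, 35), (0, 37), (0, 39), (0, 41), (0, 43), (0, 44), (0, 46), (0, 48)]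

/-- Cosets times Y, chunk 1. -/
def stepYChunk1 : List (Nat × Nat) := [(0, 50), (0, 52), (0, 54), (0, 0), (114, 11), (0, 58), (0, 60), (0, 62), (0, 64), (0, 66), (0, 68), (0, 70), (0, 72), (0, 74), (0, 76), (0, 1), (242, 7), (0, 80), (0, 82), (0, 84), (534, 38), (642, 47), (0, 88), (0, 90), (0, 92), (0, 94)]

/-- Cosets times Y, chunk 2. -/
def stepYChunk2 : List (Nat × Nat) := [(0, 95), (0, 97), (514, 61), (0, 100), (604, 18), (405, 67), (405, 42), (281, 98), (454, 99), (0, 106), (0, 3), (0, 108), (0, 110), (0, 112), (0, 114), (0, 116), (0, 118), (0, 120), (0, 121), (0, 123), (478, 77), (372, 122), (34, 113), (0, 128), (0, 130), (405, 24)]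

/-- Cosets times Y, chunk 3. -/
def stepYChunk3 : List (Nat × Nat) := [(433, 26), (0, 133), (0, 134), (0, 136), (114, 30), (0, 139), (0, 141), (0, 143), (0, 145), (604, 101), (0, 5), (0, 147), (0, 149), (46, 55), (0, 152), (148, 115), (326, 53), (0, 154), (0, 156), (0, 158), (0, 159), (405, 79), (0, 162), (0, 164), (651, 63), (333, 107)]

/-- Cosets times Y, chunk 4. -/
def stepYChunk4 : List (Nat × Nat) := [(62, 93), (50, 151), (47, 157), (551, 45), (0, 168), (0, 170), (0, 171), (407, 85), (143, 86), (0, 175), (604, 56), (0, 177), (0, 178), (529, 125), (124, 166), (18, 180), (0, 182), (0, 9), (0, 185), (0, 186), (141, 69), (0, 188), (555, 81), (377, 127), (277, 40), (40, 73)]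

/-- Cosets times Y, chunk 5. -/
def stepYChunk5 : List (Nat × Nat) := [(478, 75), (0, 191), (0, 192), (131, 32), (604, 15), (0, 195), (416, 173), (104, 89), (0, 199), (244, 176), (0, 201), (500, 103), (0, 204), (494, 105), (0, 206), (451, 203), (572, 104), (0, 208), (0, 209), (126, 148), (432, 150), (52, 111), (433, 78), (0, 213), (0, 13), (205, 167)]

/-- Cosets times Y, chunk 6. -/
def stepYChunk6 : List (Nat × Nat) := [(0, 217), (37, 28), (402, 51), (466, 215), (551, 198), (448, 187), (448, 169), (0, 221), (0, 223), (464, 34), (0, 224), (0, 225), (594, 202), (133, 91), (361, 96), (620, 165), (555, 212), (0, 228), (0, 229), (57, 20), (0, 232), (7, 146), (0, 233), (198, 119), (529, 231), (387, 83)]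

/-- Cosets times Y, chunk 7. -/
def stepYChunk7 : List (Nat × Nat) := [(0, 234), (0, 132), (0, 236), (0, 237), (416, 193), (0, 239), (0, 241), (599, 179), (523, 242), (0, 243), (0, 245), (0, 247), (385, 153), (304, 142), (633, 196), (604, 138), (0, 249), (190, 248), (442, 205), (401, 174), (141, 102), (534, 65), (185, 240), (334, 160), (28, 194), (603, 222)]

/-- Cosets times Y, chunk 8. -/
def stepYChunk8 : List (Nat × Nat) := [(0, 253), (279, 49), (0, 254), (437, 210), (433, 251), (203, 144), (242, 161), (590, 227), (374, 184), (361, 109), (589, 218), (402, 255), (466, 207), (73, 155), (494, 230), (0, 258), (108, 36), (591, 163), (109, 216), (551, 59), (345, 126), (75, 250), (153, 256), (403, 189), (207, 181), (242, 57)]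

/-- Cosets times Y, chunk 9. -/
def stepYChunk9 : List (Nat × Nat) := [(191, 124), (340, 131), (471, 246), (418, 129), (0, 262), (223, 257), (471, 135), (205, 244), (0, 264), (326, 259), (4, 117), (0, 265), (566, 226), (505, 71), (246, 252), (537, 200), (14, 140), (534, 260), (479, 197), (52, 137), (657, 219), (551, 211), (193, 220), (523, 214), (604, 87), (108, 235)]

/-- Cosets times Y, chunk 10. -/
def stepYChunk10 : List (Nat × Nat) := [(191, 263), (340, 261), (323, 190), (541, 172), (427, 238), (0, 183)]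

/-- Cosets times Y by index. -/
def stepY (i : Nat) : (Nat × Nat) := (([stepYChunk0, stepYChunk1, stepYChunk2, stepYChunk3, stepYChunk4, stepYChunk5, stepYChunk6, stepYChunk7, stepYChunk8, stepYChunk9, stepYChunk10] : List (List (Nat × Nat))).getD (i / 26) []).getD (i % 26) (0, 0)

/-- Suborbit certificates, chunk 0. -/
def subOrbChunk0 : List (Nat × Nat × Nat) := [(0, 0, 0), (0, 0, 0), (0, 0, 1), (33, 560, 0), (79, 612, 0), (40, 197, 0), (469, 280, 0), (119, 556, 0), (0, 0, 2), (112, 583, 0), (2, 365, 2), (130, 345, 2), (119, 152, 2), (90, 66, 2), (67, 467, 0), (174, 115, 0), (188, 311, 0), (0, 0, 3), (47, 67, 0), (50, 154, 2), (207, 431, 0), (52, 651, 0), (200, 539, 2), (77, 67, 2), (96, 549, 0), (33, 271, 2)]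

/-- Suborbit certificates, chunk 1. -/
def subOrbChunk1 : List (Nat × Nat × Nat) := [(262, 179, 2), (341, 216, 2), (97, 619, 2), (30, 575, 1), (7, 371, 0), (103, 193, 0), (53, 47, 2), (15, 576, 2), (183, 489, 2), (430, 249, 2), (30, 483, 3), (20, 324, 2), (399, 253, 2), (9, 289, 1), (442, 139, 2), (6, 155, 1), (1, 419, 1), (253, 70, 2), (473, 543, 2), (86, 488, 2), (134, 518, 2), (63, 352, 0), (12, 335, 0), (180, 50, 2), (5, 396, 3), (188, 21, 2)]

/-- Suborbit certificates, chunk 2. -/
def subOrbChunk2 : List (Nat × Nat × Nat) := [(165, 495, 0), (10, 427, 2), (89, 341, 0), (14, 257, 0), (107, 55, 0), (99, 562, 2), (58, 64, 0), (105, 44, 2), (285, 635, 2), (59, 532, 0), (70, 590, 2), (159, 610, 2), (19, 315, 0), (78, 131, 2), (28, 368, 2), (24, 397, 0), (384, 109, 2), (207, 266, 2), (30, 180, 0), (2, 306, 3), (161, 524, 0), (138, 203, 2), (243, 118, 0), (61, 557, 2), (244, 116, 2), (78, 466, 0)]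

/-- Suborbit certificates, chunk 3. -/
def subOrbChunk3 : List (Nat × Nat × Nat) := [(126, 583, 2), (239, 300, 0), (155, 222, 2), (79, 471, 3), (317, 487, 2), (28, 200, 0), (38, 269, 0), (278, 457, 2), (1, 66, 3), (14, 603, 2), (92, 416, 0), (1, 247, 0), (322, 309, 0), (16, 132, 0), (214, 170, 2), (152, 477, 2), (11, 603, 3), (115, 350, 2), (233, 251, 2), (363, 428, 2), (107, 614, 2), (49, 287, 2), (123, 200, 2), (123, 240, 0), (121, 496, 0), (353, 153, 2)]

/-- Suborbit certificates, chunk 4. -/
def subOrbChunk4 : List (Nat × Nat × Nat) := [(438, 521, 2), (45, 552, 0), (94, 48, 2), (185, 544, 0), (166, 302, 0), (283, 252, 0), (105, 405, 0), (7, 649, 3), (141, 392, 2), (164, 396, 2), (84, 162, 0), (133, 325, 0), (250, 223, 2), (86, 225, 0), (234, 381, 0), (21, 576, 0), (31, 426, 0), (12, 288, 1), (252, 473, 0), (26, 6, 2), (285, 627, 0), (187, 383, 2), (229, 47, 2), (205, 621, 2), (76, 126, 0), (53, 388, 0)]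

/-- Suborbit certificates, chunk 5. -/
def subOrbChunk5 : List (Nat × Nat × Nat) := [(4, 309, 0), (11, 96, 0), (19, 490, 1), (401, 405, 2), (3, 567, 2), (108, 512, 0), (489, 253, 2), (45, 501, 2), (2, 540, 0), (245, 382, 2), (113, 297, 2), (321, 414, 2), (10, 397, 0), (9, 243, 0), (315, 108, 2), (29, 560, 2), (143, 410, 2), (140, 282, 0), (133, 392, 2), (26, 624, 0), (390, 21, 2), (162, 511, 2), (6, 601, 0), (116, 34, 0), (27, 210, 0), (90, 475, 0)]

/-- Suborbit certificates, chunk 6. -/
def subOrbChunk6 : List (Nat × Nat × Nat) := [(238, 584, 0), (34, 172, 2), (64, 634, 2), (171, 145, 2), (514, 60, 2), (39, 175, 0), (47, 368, 2), (5, 349, 0), (72, 66, 0), (190, 559, 0), (70, 416, 0), (35, 614, 0), (25, 408, 0), (74, 540, 2), (29, 19, 0), (323, 345, 2), (42, 342, 2), (87, 149, 2), (31, 289, 2), (131, 239, 2), (17, 241, 0), (252, 469, 2), (9, 355, 3), (237, 266, 2), (361, 179, 2), (277, 286, 2)]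

/-- Suborbit certificates, chunk 7. -/
def subOrbChunk7 : List (Nat × Nat × Nat) := [(270, 492, 2), (49, 60, 0), (215, 249, 2), (139, 598, 2), (134, 634, 0), (173, 611, 2), (279, 233, 0), (66, 653, 0), (55, 47, 2), (144, 562, 0), (201, 299, 0), (9, 22, 2), (22, 588, 2), (15, 585, 0), (54, 382, 0), (4, 394, 1), (6, 589, 2), (89, 629, 2), (87, 225, 0), (82, 7, 0), (210, 599, 2), (457, 650, 2), (36, 489, 2), (3, 64, 0), (20, 507, 0), (1, 289, 2)]

/-- Suborbit certificates, chunk 8. -/
def subOrbChunk8 : List (Nat × Nat × Nat) := [(34, 568, 0), (57, 77, 0), (191, 95, 0), (52, 295, 2), (180, 306, 0), (463, 562, 2), (60, 332, 0), (35, 353, 3), (18, 437, 0), (15, 287, 1), (103, 185, 2), (190, 119, 2), (74, 524, 0), (4, 227, 2), (91, 652, 3), (8, 353, 0), (191, 130, 2), (20, 168, 1), (77, 62, 0), (405, 616, 2), (72, 227, 2), (32, 103, 0), (303, 369, 2), (401, 420, 0), (325, 52, 2), (40, 342, 2)]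

/-- Suborbit certificates, chunk 9. -/
def subOrbChunk9 : List (Nat × Nat × Nat) := [(193, 189, 0), (57, 615, 2), (4, 396, 3), (41, 453, 0), (82, 77, 2), (24, 293, 2), (17, 32, 2), (121, 563, 2), (424, 648, 2), (5, 109, 2), (66, 356, 2), (625, 231, 2), (18, 323, 2), (296, 83, 2), (38, 21, 2), (51, 414, 0), (75, 354, 2), (11, 590, 1), (42, 134, 0), (151, 484, 2), (100, 631, 0), (12, 184, 2), (13, 595, 0), (250, 657, 0), (178, 257, 2), (8, 330, 2)]

/-- Suborbit certificates, chunk 10. -/
def subOrbChunk10 : List (Nat × Nat × Nat) := [(272, 181, 0), (194, 276, 2), (246, 150, 0), (62, 399, 2), (50, 554, 0), (75, 124, 0)]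

/-- Suborbit certificates by index. -/
def subOrb (i : Nat) : (Nat × Nat × Nat) := (([subOrbChunk0, subOrbChunk1, subOrbChunk2, subOrbChunk3, subOrbChunk4, subOrbChunk5, subOrbChunk6, subOrbChunk7, subOrbChunk8, subOrbChunk9, subOrbChunk10] : List (List (Nat × Nat × Nat))).getD (i / 26) []).getD (i % 26) (0, 0, 0)

/-- Class certificates, chunk 0. -/
def hClsChunk0 : List (Nat × Nat) := [(0, 0), (0, 0), (0, 1), (0, 2), (1, 2), (427, 1), (1, 1), (0, 3), (3, 3), (1, 3), (259, 3), (343, 1), (198, 3), (5, 0), (2, 0), (6, 3), (0, 4), (3, 4), (5, 4), (1, 4), (2, 4), (2, 2), (364, 2), (9, 0), (4, 0), (171, 2)]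

/-- Class certificates, chunk 1. -/
def hClsChunk1 : List (Nat × Nat) := [(286, 2), (7, 1), (128, 2), (3, 1), (226, 2), (9, 4), (0, 5), (3, 5), (4, 5), (4, 2), (5, 5), (1, 5), (6, 5), (268, 1), (2, 5), (149, 3), (205, 1), (379, 2), (11, 1), (95, 2), (323, 5), (6, 1), (314, 5), (443, 5), (299, 2), (16, 3)]

/-- Class certificates, chunk 2. -/
def hClsChunk2 : List (Nat × Nat) := [(250, 5), (243, 5), (361, 5), (10, 3), (395, 5), (396, 5), (7, 4), (9, 5), (0, 6), (3, 6), (10, 6), (211, 1), (4, 6), (111, 3), (155, 1), (326, 3), (5, 6), (1, 6), (6, 6), (21, 0), (13, 6), (13, 0), (253, 3), (2, 6), (220, 2), (14, 0)]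

/-- Class certificates, chunk 3. -/
def hClsChunk3 : List (Nat × Nat) := [(8, 0), (409, 3), (223, 2), (23, 3), (191, 5), (218, 6), (184, 5), (117, 5), (351, 6), (15, 3), (168, 6), (208, 5), (288, 6), (11, 4), (169, 2), (21, 4), (164, 6), (87, 5), (275, 6), (125, 6), (157, 5), (323, 6), (13, 2), (14, 4), (221, 6), (158, 5)]

/-- Class certificates, chunk 4. -/
def hClsChunk4 : List (Nat × Nat) := [(7, 5), (222, 6), (8, 5), (8, 2), (9, 6), (103, 6), (104, 6), (166, 6), (30, 0), (105, 6), (19, 0), (194, 3), (89, 6), (106, 6), (167, 2), (20, 0), (161, 6), (12, 0), (95, 6), (160, 6), (186, 6), (77, 6), (140, 6), (25, 1), (124, 6), (70, 2)]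

/-- Class certificates, chunk 5. -/
def hClsChunk5 : List (Nat × Nat) := [(65, 6), (78, 6), (16, 1), (171, 6), (70, 6), (119, 6), (139, 6), (231, 2), (17, 1), (98, 2), (120, 6), (10, 1), (128, 6), (129, 6), (283, 5), (256, 3), (30, 4), (123, 6), (317, 4), (64, 5), (89, 1), (351, 4), (93, 6), (62, 1), (160, 1), (476, 4)]

/-- Class certificates, chunk 6. -/
def hClsChunk6 : List (Nat × Nat) := [(19, 2), (20, 4), (321, 4), (113, 1), (114, 1), (11, 5), (488, 4), (12, 5), (12, 2), (338, 3), (196, 3), (21, 5), (245, 4), (65, 1), (275, 4), (45, 1), (119, 1), (392, 4), (159, 1), (248, 4), (84, 1), (82, 3), (444, 4), (115, 1), (264, 3), (14, 5)]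

/-- Class certificates, chunk 7. -/
def hClsChunk7 : List (Nat × Nat) := [(400, 4), (120, 1), (7, 6), (85, 1), (16, 6), (118, 1), (404, 4), (8, 6), (114, 3), (206, 1), (421, 3), (213, 6), (125, 5), (50, 5), (51, 5), (35, 1), (66, 5), (52, 2), (48, 6), (242, 4), (67, 5), (23, 1), (157, 1), (52, 6), (270, 1), (393, 4)]

/-- Class certificates, chunk 8. -/
def hClsChunk8 : List (Nat × Nat) := [(123, 5), (175, 2), (24, 1), (394, 4), (73, 2), (208, 1), (158, 1), (15, 1), (407, 4), (271, 1), (441, 4), (218, 5), (93, 5), (36, 5), (46, 3), (69, 5), (143, 5), (183, 4), (49, 5), (138, 5), (273, 1), (274, 1), (312, 4), (91, 5), (32, 3), (348, 4)]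

/-- Class certificates, chunk 9. -/
def hClsChunk9 : List (Nat × Nat) := [(117, 1), (324, 4), (207, 1), (359, 4), (25, 4), (164, 5), (126, 2), (33, 3), (251, 5), (313, 4), (102, 5), (209, 1), (210, 6), (22, 3), (478, 4), (273, 5), (492, 4), (250, 6), (17, 4), (30, 5), (187, 4), (350, 1), (48, 1), (84, 3), (253, 1), (33, 1)]

/-- Class certificates, chunk 10. -/
def hClsChunk10 : List (Nat × Nat) := [(347, 4), (85, 3), (108, 1), (210, 1), (189, 4), (201, 3), (157, 4), (61, 3), (109, 1), (86, 1), (202, 3), (20, 6), (20, 5), (412, 1), (152, 3), (158, 4), (11, 6), (83, 3), (88, 1), (40, 6), (195, 1), (12, 6), (75, 6), (255, 1), (58, 6), (21, 6)]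

/-- Class certificates, chunk 11. -/
def hClsChunk11 : List (Nat × Nat) := [(517, 1), (146, 3), (275, 1), (274, 4), (62, 3), (194, 1), (58, 0), (151, 3), (273, 4), (29, 0), (80, 1), (145, 3), (41, 6), (327, 1), (263, 3), (117, 4), (124, 2), (76, 6), (146, 1), (27, 0), (107, 6), (42, 6), (14, 6), (432, 1), (113, 3), (56, 6)]

/-- Class certificates, chunk 12. -/
def hClsChunk12 : List (Nat × Nat) := [(209, 4), (219, 6), (42, 0), (112, 3), (92, 6), (108, 3), (29, 6), (254, 1), (57, 6), (92, 2), (55, 6), (18, 0), (79, 6), (30, 6), (34, 4), (64, 4), (63, 3), (107, 5), (138, 4), (137, 0), (208, 4), (183, 5), (227, 5), (334, 1), (354, 5), (75, 0)]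

/-- Class certificates, chunk 13. -/
def hClsChunk13 : List (Nat × Nat) := [(91, 4), (44, 3), (89, 5), (279, 5), (251, 4), (245, 5), (226, 5), (76, 0), (35, 4), (94, 2), (45, 3), (55, 0), (324, 5), (95, 5), (160, 5), (76, 5), (161, 5), (399, 5), (159, 6), (31, 3), (102, 0), (172, 5), (347, 5), (138, 0), (191, 6), (24, 4)]

/-- Class certificates, chunk 14. -/
def hClsChunk14 : List (Nat × Nat) := [(47, 4), (58, 4), (87, 4), (91, 6), (101, 0), (47, 5), (171, 5), (277, 5), (165, 4), (68, 6), (65, 5), (214, 5), (220, 5), (373, 5), (39, 2), (67, 4), (41, 4), (40, 0), (70, 5), (119, 5), (356, 5), (25, 5), (184, 0), (187, 5), (27, 5), (27, 2)]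

/-- Class certificates, chunk 15. -/
def hClsChunk15 : List (Nat × Nat) := [(147, 3), (42, 4), (165, 6), (88, 5), (128, 5), (212, 5), (210, 4), (50, 6), (120, 5), (317, 5), (310, 4), (28, 2), (29, 4), (129, 5), (153, 1), (17, 5), (362, 4), (18, 5), (18, 2), (442, 1), (61, 1), (109, 3), (130, 6), (111, 1), (143, 6), (198, 1)]

/-- Class certificates, chunk 16. -/
def hClsChunk16 : List (Nat × Nat) := [(200, 3), (71, 5), (332, 1), (193, 3), (49, 1), (260, 1), (64, 6), (166, 2), (102, 6), (53, 2), (360, 1), (37, 0), (240, 4), (230, 2), (90, 1), (117, 6), (48, 5), (57, 0), (91, 1), (118, 6), (80, 3), (101, 4), (97, 2), (163, 1), (68, 2), (60, 1)]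

/-- Class certificates, chunk 17. -/
def hClsChunk17 : List (Nat × Nat) := [(182, 4), (22, 1), (96, 2), (44, 1), (96, 6), (82, 1), (173, 6), (149, 1), (67, 1), (52, 5), (37, 2), (259, 1), (34, 6), (47, 6), (46, 1), (38, 2), (416, 1), (37, 6), (181, 4), (66, 1), (87, 6), (131, 2), (34, 5), (110, 1), (75, 4), (72, 2)]

/-- Class certificates, chunk 18. -/
def hClsChunk18 : List (Nat × Nat) := [(282, 1), (32, 1), (43, 1), (309, 4), (174, 2), (83, 1), (157, 6), (68, 5), (26, 5), (90, 5), (71, 2), (24, 6), (88, 6), (35, 5), (71, 6), (136, 4), (278, 4), (122, 1), (165, 5), (34, 1), (81, 1), (137, 4), (87, 1), (31, 1), (156, 1), (281, 4)]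

/-- Class certificates, chunk 19. -/
def hClsChunk19 : List (Nat × Nat) := [(36, 2), (79, 4), (67, 6), (136, 0), (159, 4), (285, 5), (100, 2), (135, 2), (248, 0), (167, 5), (70, 0), (173, 2), (54, 2), (56, 4), (105, 0), (125, 2), (243, 0), (26, 2), (71, 0), (37, 5), (110, 3), (57, 4), (276, 4), (297, 0), (106, 0), (36, 6)]

/-- Class certificates, chunk 20. -/
def hClsChunk20 : List (Nat × Nat) := [(50, 2), (241, 4), (40, 5), (40, 4), (218, 4), (130, 0), (203, 1), (24, 5), (75, 5), (284, 4), (136, 5), (58, 5), (140, 4), (118, 4), (130, 2), (74, 2), (404, 0), (129, 0), (141, 4), (189, 0), (51, 2), (52, 0), (63, 1), (41, 5), (361, 4), (229, 0)]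

/-- Class certificates, chunk 21. -/
def hClsChunk21 : List (Nat × Nat) := [(78, 0), (25, 6), (93, 2), (64, 1), (164, 4), (96, 0), (27, 6), (121, 5), (42, 5), (246, 4), (211, 4), (321, 0), (95, 0), (145, 1), (105, 4), (59, 1), (116, 1), (29, 5), (283, 4), (173, 0), (17, 6), (47, 1), (55, 5), (18, 6), (101, 5), (79, 5)]

/-- Class certificates, chunk 22. -/
def hClsChunk22 : List (Nat × Nat) := [(143, 4), (121, 4), (144, 4), (122, 4), (186, 4), (141, 0), (119, 4), (184, 4), (239, 0), (156, 3), (55, 4), (120, 4), (250, 4), (230, 0), (92, 5), (76, 4), (214, 4), (219, 5), (43, 3), (216, 4), (107, 4), (90, 4), (116, 3), (139, 4), (102, 4), (313, 5)]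

/-- Class certificates, chunk 23. -/
def hClsChunk23 : List (Nat × Nat) := [(190, 4), (261, 1), (188, 0), (89, 4), (191, 4), (243, 4), (181, 0), (69, 2), (372, 5), (174, 0), (161, 4), (60, 3), (478, 5), (48, 4), (88, 4), (86, 3), (242, 5), (199, 1), (123, 4), (293, 5), (49, 4), (99, 2), (407, 5), (105, 5), (312, 5), (59, 3)]

/-- Class certificates, chunk 24. -/
def hClsChunk24 : List (Nat × Nat) := [(140, 5), (394, 5), (104, 4), (35, 6), (78, 4), (172, 0), (104, 5), (162, 4), (57, 5), (56, 5), (323, 4), (279, 4), (77, 4), (66, 6), (142, 4), (51, 6), (26, 6), (217, 1), (77, 5), (103, 5), (65, 4), (94, 6), (66, 4), (103, 4), (49, 6), (106, 4)]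

/-- Class certificates, chunk 25. -/
def hClsChunk25 : List (Nat × Nat) := [(150, 1), (78, 5), (69, 6), (158, 6), (209, 6), (166, 5), (81, 3), (115, 3), (124, 5), (126, 6)]

/-- Class certificates by index. -/
def hCls (i : Nat) : (Nat × Nat) := (([hClsChunk0, hClsChunk1, hClsChunk2, hClsChunk3, hClsChunk4, hClsChunk5, hClsChunk6, hClsChunk7, hClsChunk8, hClsChunk9, hClsChunk10, hClsChunk11, hClsChunk12, hClsChunk13, hClsChunk14, hClsChunk15, hClsChunk16, hClsChunk17, hClsChunk18, hClsChunk19, hClsChunk20, hClsChunk21, hClsChunk22, hClsChunk23, hClsChunk24, hClsChunk25] : List (List (Nat × Nat))).getD (i / 26) []).getD (i % 26) (0, 0)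

/-- Suborbit representatives. -/
def subRep (i : Nat) : Nat := ([1, 2, 8, 17] : List Nat).getD i 0

/-- Class representatives. -/
def hRep (i : Nat) : Nat := ([1, 2, 3, 7, 16, 32, 60] : List Nat).getD i 0

/-- Maximality words for X. -/
def maxX (i : Nat) : (Nat × List Nat) := ([(0, [2]), (155, [2, 0, 1, 1, 0, 2]), (199, [2, 2, 2, 0, 2, 1, 1]), (598, [2, 1, 0, 2, 2, 2])] : List (Nat × List Nat)).getD i (0, [])

/-- Maximality words for Y. -/
def maxY (i : Nat) : (Nat × List Nat) := ([(533, [2, 1, 2, 0, 1, 0, 1, 0]), (0, [2]), (189, [2, 0, 2, 2, 1, 1, 0]), (417, [2, 0, 1, 2, 1, 2, 2])] : List (Nat × List Nat)).getD i (0, [])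

/-- Normal closure words for the first generator. -/
def genA (i : Nat) : (List Nat) := ([[0], [19, 182], [0, 0, 4], [0, 0, 2], [52, 75], [8, 14], [18, 226]] : List (List Nat)).getD i []

/-- Normal closure words for the second generator. -/
def genB (i : Nat) : (List Nat) := ([[34, 53], [0], [6, 379], [0, 2], [31, 121], [24, 38], [45, 131]] : List (List Nat)).getD i []

/-- X. -/
def matX : M7 := (.mk (.mk 0 1 0 0 0 0 0) (.mk 0 0 1 0 0 0 0) (.mk 0 0 0 1 0 0 0) (.mk 0 0 0 0 1 0 0) (.mk 0 0 0 0 0 1 0) (.mk 0 0 0 0 0 0 1) (.mk 1 0 0 0 0 0 0))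

/-- Y. -/
def matY : M7 := (.mk (.mk 8 2 10 10 8 10 8) (.mk 9 1 1 3 1 3 3) (.mk 10 10 8 10 8 8 2) (.mk 10 8 10 8 8 2 10) (.mk 8 10 8 8 2 10 10) (.mk 1 3 3 9 1 1 3) (.mk 3 3 9 1 1 3 1))

/-- Word of the first stabiliser generator. -/
def wordA : List Nat := [0, 0, 0, 1, 1, 1, 1, 0, 0, 0, 1, 0, 0, 0, 1, 0, 0, 0, 1, 1, 1, 1, 0, 0, 0, 1, 0, 0, 0, 1, 0, 0, 0, 1, 1, 1, 1, 0, 0, 0, 1, 0, 0, 0, 1, 0, 0, 0, 1, 1, 1, 1, 0, 0, 0, 1, 0, 0, 0, 1, 0, 0, 0, 1, 1, 1, 1, 0, 0, 0, 1, 0, 0, 0, 1]

/-- Word of the second stabiliser generator. -/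
def wordB : List Nat := [0, 0, 0, 0, 0, 0, 0, 0, 0, 0, 0, 0, 0, 0, 0, 0, 0, 0, 1, 1, 1, 1, 1, 1, 1, 1, 1, 1, 1, 1, 1, 0, 1, 0, 1, 0, 1, 1, 0, 1, 0, 1, 1, 0, 1, 0, 1, 0, 1, 0, 1, 0, 1, 1, 0, 1, 0, 1, 1, 0, 1, 0, 1, 1, 1, 0, 0, 0]

/-- Commuting involution 0. -/
def inv8_0 : Nat × Nat := (1, 0)

/-- Commuting involution 1. -/
def inv8_1 : Nat × Nat := (551, 29)

/-- Commuting involution 2. -/
def inv8_2 : Nat × Nat := (536, 0)

/-- An element of order 19. -/
def el19 : Nat × Nat := (218, 187)

/-- An element of order 11. -/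
def el11 : Nat := 3

/-- An element of order 3. -/
def el3 : Nat := 2

/-- A conjugate of a generator outside the stabiliser. -/
def elOut : Nat × Nat := (408, 49)

end CfsgLib.SporadicB.J1Cert
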