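import Cfsg.Agent.Lib.SporadicB.J1.DataH
import Cfsg.Agent.Lib.SporadicB.J1.DataT
import Cfsg.Agent.Lib.SporadicB.J1.DataTab

/-!
The finite checks for the first Janko group, each evaluated by the kernel.
-/

namespace CfsgLib.SporadicB.J1Cert

/-- Generators of the big group. -/
def gXY (g : Nat) : M7 := if g == 0 then matX else matY

/-- Generators of the stabiliser. -/
def gAB (g : Nat) : M7 := if g == 0 then hEl (hMulA 0) else hEl (hMulB 0)

/-- Generators used for maximality. -/
def gMax (r g : Nat) : M7 := if g == 2 then tEl (subRep r) else gAB g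

/-- An element given by stabiliser and coset index. -/
def elem (x : Nat × Nat) : M7 := mm (hEl x.1) (tEl x.2)

/-- All indices below a bound. -/
def allTo (n : Nat) (f : Nat → Bool) : Bool := (List.range n).all f

theorem allTo_spec {n : Nat} {f : Nat → Bool} (h : allTo n f = true) {i : Nat} (hi : i < n) : f i = true := by
  rw [allTo, List.all_eq_true] at h
  exact h i (List.mem_range.mpr hi)

set_option maxRecDepth 100000

theorem chk_base : (meq (hEl 0) one && meq (tEl 0) one &&
    meq (prodM (wordA.map gXY)) (gAB 0) && meq (prodM (wordB.map gXY)) (gAB 1) &&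
    decide (elOut.1 < 660) && decide (elOut.2 < 266) && !(elOut.2 == 0) &&
    meq (prodM [gXY 0, gAB 0, gXY 0, gXY 0, gXY 0, gXY 0, gXY 0, gXY 0]) (elem elOut)) = true := by
  decide +kernel

theorem chk_hMulA : (allTo 660 fun i =>
    decide (hMulA i < 660) && meq (mm (hEl i) (gAB 0)) (hEl (hMulA i))) = true := by
  decide +kernel

theorem chk_hMulB : (allTo 660 fun i =>
    decide (hMulB i < 660) && meq (mm (hEl i) (gAB 1)) (hEl (hMulB i))) = true := by
  decide +kernel

theorem chk_hPar : (allTo 660 fun i =>
    (i == 0) || (decide ((hPar i).1 < i) && meq (mm (hEl (hPar i).1) (gAB (hPar i).2)) (hEl i))) = true := by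
  decide +kernel

theorem chk_hInv : (allTo 660 fun i =>
    decide (hInv i < 660) && meq (mm (hEl i) (hEl (hInv i))) one) = true := by
  decide +kernel

theorem chk_tPar : (allTo 266 fun i =>
    (i == 0) || (decide ((tPar i).1 < i) && meq (mm (tEl (tPar i).1) (gXY (tPar i).2)) (tEl i))) = true := by
  decide +kernel

theorem chk_stepX : (allTo 266 fun i =>
    decide ((stepX i).1 < 660) && decide ((stepX i).2 < 266) &&
      meq (mm (tEl i) (gXY 0)) (elem (stepX i))) = true := by
  decide +kernel

theorem chk_stepY : (allTo 266 fun i =>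
    decide ((stepY i).1 < 660) && decide ((stepY i).2 < 266) &&
      meq (mm (tEl i) (gXY 1)) (elem (stepY i))) = true := by
  decide +kernel

theorem chk_subOrb : (allTo 266 fun i =>
    (i == 0) || (decide ((subOrb i).1 < 660) && decide ((subOrb i).2.1 < 660) && decide ((subOrb i).2.2 < 4) &&
      meq (mm (tEl i) (hEl (subOrb i).1)) (elem ((subOrb i).2.1, subRep (subOrb i).2.2)))) = true := by
  decide +kernel

theorem chk_max : (allTo 4 fun r =>
    decide ((maxX r).1 < 660) && decide ((maxY r).1 < 660) && decide (subRep r < 266) &&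
      meq (mm (hEl (maxX r).1) (prodM ((maxX r).2.map (gMax r)))) (gXY 0) &&
      meq (mm (hEl (maxY r).1) (prodM ((maxY r).2.map (gMax r)))) (gXY 1)) = true := by
  decide +kernel

theorem chk_cls : (allTo 660 fun i =>
    (i == 0) || (decide ((hCls i).1 < 660) && decide ((hCls i).2 < 7) &&
      meq (mm (hEl (hCls i).1) (hEl i)) (mm (hEl (hRep (hCls i).2)) (hEl (hCls i).1)))) = true := by
  decide +kernel

/-- The conjugate used in normal closure words. -/
def conjRep (r c : Nat) : M7 := mm (mm (hEl c) (hEl (hRep r))) (hEl (hInv c))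

theorem chk_gen : (allTo 7 fun r =>
    decide (hRep r < 660) && (genA r).all (fun c => decide (c < 660)) && (genB r).all (fun c => decide (c < 660)) &&
      meq (prodM ((genA r).map (conjRep r))) (gAB 0) &&
      meq (prodM ((genB r).map (conjRep r))) (gAB 1)) = true := by
  decide +kernel

/-- Repeated product. -/
def powM (A : M7) (n : Nat) : M7 := prodM (List.replicate n A)

theorem chk_orders : (decide (el19.1 < 660) && decide (el19.2 < 266) && decide (el11 < 660) && decide (el3 < 660) &&
    meq (powM (elem el19) 19) one && !(meq (elem el19) one) &&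
    meq (powM (hEl el11) 11) one && !(meq (hEl el11) one) &&
    meq (powM (hEl el3) 3) one && !(meq (hEl el3) one) &&
    meq (powM matX 7) one && !(meq matX one) && meq (powM matY 5) one && !(meq matY one) &&
    decide (inv8_0.1 < 660) && decide (inv8_0.2 < 266) && decide (inv8_1.1 < 660) && decide (inv8_1.2 < 266) &&
    decide (inv8_2.1 < 660) && decide (inv8_2.2 < 266) &&
    meq (powM (elem inv8_0) 2) one && meq (powM (elem inv8_1) 2) one && meq (powM (elem inv8_2) 2) one &&
    meq (mm (elem inv8_0) (elem inv8_1)) (mm (elem inv8_1) (elem inv8_0)) &&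
    meq (mm (elem inv8_0) (elem inv8_2)) (mm (elem inv8_2) (elem inv8_0)) &&
    meq (mm (elem inv8_1) (elem inv8_2)) (mm (elem inv8_2) (elem inv8_1))) = true := by
  decide +kernel

/-- The eight products of the commuting involutions. -/
def eight : List M7 :=
  [one, elem inv8_0, elem inv8_1, elem inv8_2, mm (elem inv8_0) (elem inv8_1), mm (elem inv8_0) (elem inv8_2),
   mm (elem inv8_1) (elem inv8_2), mm (mm (elem inv8_0) (elem inv8_1)) (elem inv8_2)]

/-- Entries of a matrix as a list. -/
def entries (A : M7) : List Nat :=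
  [A.r0, A.r1, A.r2, A.r3, A.r4, A.r5, A.r6].flatMap fun v => [v.a % 11, v.b % 11, v.c % 11, v.d % 11, v.e % 11, v.f % 11, v.g % 11]

theorem chk_eight : (eight.map entries).Nodup := by
  decide +kernel

end CfsgLib.SporadicB.J1Cert
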