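import Cfsg.Prelude.Def_Spor_J1
import Cfsg.Prelude.Def_Sporadic
import Cfsg.Agent.Lib.SporadicB.J1.Cert

/-!
Order and simplicity of the first Janko group as a group of 7 x 7 matrices over the integers modulo 11.
-/

namespace CfsgLib.SporadicB.J1Cert

open Cfsg.Spor

-- keep the elaborator from evaluating certificate data (the kernel is not affected)
attribute [local irreducible] mm meq hEl tEl hMulA hMulB hPar tPar hInv stepX stepY subOrb hCls maxX maxY genA genB

/-- The group. -/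
abbrev J : Type := J1

/-- The matrix of an element. -/
def mat (g : J) : Matrix (Fin 7) (Fin 7) (ZMod 11) := ((g : GL (Fin 7) (ZMod 11)) : Matrix _ _ _)

theorem mat_inj {g h : J} (e : mat g = mat h) : g = h := Subtype.ext (Units.ext e)

theorem mat_mul (g h : J) : mat (g * h) = mat g * mat h := rfl

theorem mat_one : mat 1 = 1 := rfl

/-- `A` represents `g`. -/
def Reps (A : M7) (g : J) : Prop := mat g = toMat A

theorem Reps.mul {A B : M7} {g h : J} (hg : Reps A g) (hh : Reps B h) : Reps (mm A B) (g * h) := by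
  rw [Reps, mat_mul, hg, hh, toMat_mm]

theorem Reps.eq {A B : M7} {g h : J} (hg : Reps A g) (hh : Reps B h) (e : meq A B = true) : g = h :=
  mat_inj (by rw [hg, hh, meq_eq e])

theorem Reps.of_meq {A B : M7} {g : J} (hg : Reps A g) (e : meq A B = true) : Reps B g := meq_eq e ▸ hg

theorem reps_one : Reps one 1 := by rw [Reps, mat_one, toMat_one]

/-- The generator X. -/
def gx : J := ⟨jankoX, Subgroup.subset_closure (Or.inl rfl)⟩

/-- The generator Y. -/
def gy : J := ⟨jankoY, Subgroup.subset_closure (Or.inr rfl)⟩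

theorem reps_x : Reps matX gx := by
  show Cfsg.jankoMatrixX = _
  decide

theorem reps_y : Reps matY gy := by
  show Cfsg.jankoMatrixY = _
  decide

theorem reps_gXY (g : Nat) : ∃ x : J, Reps (gXY g) x ∧ (x = gx ∨ x = gy) := by
  unfold gXY
  by_cases h : g = 0
  · subst h; exact ⟨gx, reps_x, Or.inl rfl⟩
  · rw [if_neg (by simpa using h)]; exact ⟨gy, reps_y, Or.inr rfl⟩

theorem reps_prod {α : Type} (f : α → M7) (P : J → Prop) (h1 : P 1) (hm : ∀ x y, P x → P y → P (x * y)) :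
    ∀ l : List α, (∀ a ∈ l, ∃ g, Reps (f a) g ∧ P g) → ∃ g, Reps (prodM (l.map f)) g ∧ P g
  | [], _ => ⟨1, reps_one, h1⟩
  | a :: l, h => by
    obtain ⟨g, hg, hPg⟩ := h a (by simp)
    obtain ⟨k, hk, hPk⟩ := reps_prod f P h1 hm l fun b hb => h b (by simp [hb])
    exact ⟨g * k, hg.mul hk, hm _ _ hPg hPk⟩

theorem base_facts : meq (hEl 0) one = true ∧ meq (tEl 0) one = true ∧
    meq (prodM (wordA.map gXY)) (gAB 0) = true ∧ meq (prodM (wordB.map gXY)) (gAB 1) = true ∧
    elOut.1 < 660 ∧ elOut.2 < 266 ∧ elOut.2 ≠ 0 ∧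
    meq (prodM [gXY 0, gAB 0, gXY 0, gXY 0, gXY 0, gXY 0, gXY 0, gXY 0]) (elem elOut) = true := by
  simpa [and_assoc] using chk_base

theorem exists_gAB (g : Nat) : ∃ x : J, Reps (gAB g) x := by
  have hw : ∀ w : List Nat, ∃ x : J, Reps (prodM (w.map gXY)) x := fun w => by
    obtain ⟨x, hx, -⟩ := reps_prod gXY (fun _ => True) trivial (fun _ _ _ _ => trivial) w fun a _ => by
      obtain ⟨y, hy, -⟩ := reps_gXY a
      exact ⟨y, hy, trivial⟩
    exact ⟨x, hx⟩
  unfold gAB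
  by_cases h : g = 0
  · subst h
    obtain ⟨x, hx⟩ := hw wordA
    exact ⟨x, hx.of_meq base_facts.2.2.1⟩
  · obtain ⟨x, hx⟩ := hw wordB
    rw [if_neg (by simpa using h)]
    exact ⟨x, hx.of_meq base_facts.2.2.2.1⟩

/-- The generators of the stabiliser. -/
noncomputable def gab (g : Nat) : J := (exists_gAB g).choose

theorem reps_gab (g : Nat) : Reps (gAB g) (gab g) := (exists_gAB g).choose_spec

theorem gab_cases (g : Nat) : gab g = gab 0 ∨ gab g = gab 1 := by
  by_cases h : g = 0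
  · subst h; exact Or.inl rfl
  · refine Or.inr (mat_inj ?_)
    have e : gAB g = gAB 1 := by simp [gAB, h]
    rw [reps_gab g, reps_gab 1, e]

theorem hPar_spec {i : Nat} (hi : i < 660) (h0 : i ≠ 0) :
    (hPar i).1 < i ∧ meq (mm (hEl (hPar i).1) (gAB (hPar i).2)) (hEl i) = true := by
  simpa [h0] using allTo_spec chk_hPar hi

theorem tPar_spec {i : Nat} (hi : i < 266) (h0 : i ≠ 0) :
    (tPar i).1 < i ∧ meq (mm (tEl (tPar i).1) (gXY (tPar i).2)) (tEl i) = true := by
  simpa [h0] using allTo_spec chk_tPar hi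

theorem exists_hEl : ∀ i : Fin 660, ∃ x : J, Reps (hEl i) x := by
  suffices H : ∀ i, i < 660 → ∃ x : J, Reps (hEl i) x from fun i => H i i.2
  intro i
  induction i using Nat.strong_induction_on with
  | _ i ih =>
    intro hi
    by_cases h0 : i = 0
    · subst h0; exact ⟨1, by rw [Reps, meq_eq base_facts.1]; exact reps_one⟩
    · obtain ⟨hlt, he⟩ := hPar_spec hi h0
      obtain ⟨x, hx⟩ := ih _ hlt (hlt.trans hi)
      exact ⟨_, (hx.mul (reps_gab _)).of_meq he⟩

theorem exists_tEl : ∀ i : Fin 266, ∃ x : J, Reps (tEl i) x := by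
  suffices H : ∀ i, i < 266 → ∃ x : J, Reps (tEl i) x from fun i => H i i.2
  intro i
  induction i using Nat.strong_induction_on with
  | _ i ih =>
    intro hi
    by_cases h0 : i = 0
    · subst h0; exact ⟨1, by rw [Reps, meq_eq base_facts.2.1]; exact reps_one⟩
    · obtain ⟨hlt, he⟩ := tPar_spec hi h0
      obtain ⟨x, hx⟩ := ih _ hlt (hlt.trans hi)
      obtain ⟨y, hy, -⟩ := reps_gXY (tPar i).2
      exact ⟨_, (hx.mul hy).of_meq he⟩

/-- Elements of the stabiliser. -/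
noncomputable def hU (i : Fin 660) : J := (exists_hEl i).choose

/-- Coset representatives. -/
noncomputable def tU (i : Fin 266) : J := (exists_tEl i).choose

theorem reps_hU (i : Fin 660) : Reps (hEl i) (hU i) := (exists_hEl i).choose_spec

theorem reps_tU (i : Fin 266) : Reps (tEl i) (tU i) := (exists_tEl i).choose_spec

theorem hU_zero : hU 0 = 1 := (reps_hU 0).eq reps_one base_facts.1

theorem tU_zero : tU 0 = 1 := (reps_tU 0).eq reps_one base_facts.2.1

theorem reps_elem {x : Nat × Nat} (h1 : x.1 < 660) (h2 : x.2 < 266) :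
    Reps (elem x) (hU ⟨x.1, h1⟩ * tU ⟨x.2, h2⟩) :=
  (reps_hU ⟨x.1, h1⟩).mul (reps_tU ⟨x.2, h2⟩)

theorem range_mul_gab (i : Fin 660) (g : Nat) : ∃ j, hU i * gab g = hU j := by
  rcases gab_cases g with e | e <;> rw [e]
  · have := allTo_spec chk_hMulA i.2
    simp only [Bool.and_eq_true, decide_eq_true_eq] at this
    exact ⟨⟨_, this.1⟩, ((reps_hU i).mul (reps_gab 0)).eq (reps_hU ⟨_, this.1⟩) this.2⟩
  · have := allTo_spec chk_hMulB i.2
    simp only [Bool.and_eq_true, decide_eq_true_eq] at this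
    exact ⟨⟨_, this.1⟩, ((reps_hU i).mul (reps_gab 1)).eq (reps_hU ⟨_, this.1⟩) this.2⟩

theorem hU_par {i : Fin 660} (h0 : (i : Nat) ≠ 0) :
    ∃ j : Fin 660, (j : Nat) < i ∧ hU i = hU j * gab (hPar i).2 := by
  obtain ⟨hlt, he⟩ := hPar_spec i.2 h0
  exact ⟨⟨_, hlt.trans i.2⟩, hlt, ((((reps_hU ⟨_, hlt.trans i.2⟩).mul (reps_gab _)).eq (reps_hU i) he)).symm⟩

theorem range_mul : ∀ (i j : Fin 660), ∃ k, hU i * hU j = hU k := by
  intro i j
  induction h : (j : Nat) using Nat.strong_induction_on generalizing j with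
  | _ m ih =>
    subst h
    by_cases h0 : (j : Nat) = 0
    · refine ⟨i, ?_⟩
      rw [show j = 0 from Fin.ext h0, hU_zero, mul_one]
    · obtain ⟨p, hp, e⟩ := hU_par h0
      obtain ⟨k, hk⟩ := ih _ hp p rfl
      rw [e, ← mul_assoc, hk]
      exact range_mul_gab k _

/-- The point stabiliser. -/
noncomputable def H : Subgroup J where
  carrier := Set.range hU
  one_mem' := ⟨0, hU_zero⟩
  mul_mem' := by
    rintro _ _ ⟨i, rfl⟩ ⟨j, rfl⟩
    obtain ⟨k, hk⟩ := range_mul i j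
    exact ⟨k, hk.symm⟩
  inv_mem' := by
    rintro _ ⟨i, rfl⟩
    have := allTo_spec chk_hInv i.2
    simp only [Bool.and_eq_true, decide_eq_true_eq] at this
    exact ⟨⟨_, this.1⟩, (inv_eq_of_mul_eq_one_right (((reps_hU i).mul (reps_hU ⟨_, this.1⟩)).eq reps_one this.2)).symm⟩

theorem hU_mem (i : Fin 660) : hU i ∈ H := ⟨i, rfl⟩

theorem gab_mem (g : Nat) : gab g ∈ H := by
  obtain ⟨j, hj⟩ := range_mul_gab 0 g
  rw [hU_zero, one_mul] at hj
  exact ⟨j, hj.symm⟩

theorem hU_mem_of_gab {K : Subgroup J} (ha : gab 0 ∈ K) (hb : gab 1 ∈ K) : ∀ i, hU i ∈ K := by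
  intro i
  induction h : (i : Nat) using Nat.strong_induction_on generalizing i with
  | _ m ih =>
    subst h
    by_cases h0 : (i : Nat) = 0
    · rw [show i = 0 from Fin.ext h0, hU_zero]; exact one_mem K
    · obtain ⟨p, hp, e⟩ := hU_par h0
      rw [e]
      refine mul_mem (ih _ hp p rfl) ?_
      rcases gab_cases (hPar i).2 with e | e <;> rw [e] <;> assumption

theorem finite_J : Finite J := inferInstance

theorem inv_mem_of_stable {S : Set J} (h1 : (1 : J) ∈ S) (hm : ∀ a ∈ S, ∀ b ∈ S, a * b ∈ S) {a : J} (ha : a ∈ S) :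
    a⁻¹ ∈ S := by
  have hp : ∀ n : ℕ, a ^ n ∈ S := fun n => by
    induction n with
    | zero => simpa using h1
    | succ n ih => rw [pow_succ]; exact hm _ ih _ ha
  have : a⁻¹ = a ^ (orderOf a - 1) := by
    apply inv_eq_of_mul_eq_one_right
    rw [← pow_succ', Nat.sub_add_cancel (orderOf_pos a), pow_orderOf_eq_one]
  rw [this]; exact hp _

theorem cover (g : J) : ∃ i j, g = hU i * tU j := by
  let T : Set J := {y | ∃ i j, y = hU i * tU j}
  let S : Set J := {y | ∀ x ∈ T, x * y ∈ T}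
  have hm : ∀ a ∈ S, ∀ b ∈ S, a * b ∈ S := fun a ha b hb x hx => by
    rw [← mul_assoc]; exact hb _ (ha x hx)
  have h1 : (1 : J) ∈ S := fun x hx => by rw [mul_one]; exact hx
  have hgen : ∀ (f : Nat → Nat × Nat) (M : M7) (z : J), Reps M z →
      (∀ i < 266, (f i).1 < 660 ∧ (f i).2 < 266 ∧ meq (mm (tEl i) M) (elem (f i)) = true) → z ∈ S := by
    intro f M z hz hf x hx
    obtain ⟨i, j, rfl⟩ := hx
    obtain ⟨h1, h2, he⟩ := hf j j.2
    obtain ⟨k, hk⟩ := range_mul i ⟨_, h1⟩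
    refine ⟨k, ⟨_, h2⟩, ?_⟩
    rw [mul_assoc, ((reps_tU j).mul hz).eq (reps_elem h1 h2) he, ← mul_assoc, hk]
  have hx : gx ∈ S := hgen stepX matX gx reps_x fun i hi => by
    have := allTo_spec chk_stepX hi
    simp only [Bool.and_eq_true, decide_eq_true_eq, gXY, beq_self_eq_true, if_true] at this
    exact ⟨this.1.1, this.1.2, this.2⟩
  have hy : gy ∈ S := hgen stepY matY gy reps_y fun i hi => by
    have := allTo_spec chk_stepY hi
    simp only [Bool.and_eq_true, decide_eq_true_eq, gXY, show ((1 : Nat) == 0) = false from rfl, Bool.false_eq_true,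
      if_false] at this
    exact ⟨this.1.1, this.1.2, this.2⟩
  let Sg : Subgroup J :=
    { carrier := S
      one_mem' := h1
      mul_mem' := fun {a b} ha hb => hm a ha b hb
      inv_mem' := fun {a} ha => inv_mem_of_stable h1 hm ha }
  have hall : g ∈ Sg := by
    have e : Subgroup.closure ((((↑) : J → GL (Fin 7) (ZMod 11))) ⁻¹' {jankoX, jankoY}) = ⊤ :=
      Subgroup.closure_closure_coe_preimage
    have hg : g ∈ Subgroup.closure ((((↑) : J → GL (Fin 7) (ZMod 11))) ⁻¹' {jankoX, jankoY}) := by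
      rw [e]; exact Subgroup.mem_top g
    refine (Subgroup.closure_le Sg).mpr ?_ hg
    rintro w (hw | hw)
    · rw [show w = gx from Subtype.ext hw]; exact hx
    · rw [show w = gy from Subtype.ext hw]; exact hy
  have h0 : (1 : J) ∈ T := ⟨0, 0, by rw [hU_zero, tU_zero, one_mul]⟩
  have := hall 1 h0
  rwa [one_mul] at this

theorem pow_reps {A : M7} {g : J} (h : Reps A g) : ∀ n, Reps (powM A n) (g ^ n)
  | 0 => by rw [pow_zero]; exact reps_one
  | n + 1 => by
    rw [pow_succ']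
    exact h.mul (pow_reps h n)

theorem not_one_of {A : M7} {g : J} (h : Reps A g) (hne : toMat A ≠ 1) : g ≠ 1 := by
  rintro rfl
  exact hne (h.symm.trans mat_one)

theorem toMat_ne {A B : M7} (h : entries A ≠ entries B) : toMat A ≠ toMat B := by
  intro e
  apply h
  have g : ∀ i j, (A.row i).get j % 11 = (B.row i).get j % 11 := fun i j =>
    (ZMod.natCast_eq_natCast_iff' _ _ _).mp (congrFun (congrFun e i) j)
  simp only [entries, List.flatMap_cons, List.flatMap_nil, List.cons_append, List.nil_append]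
  have := fun i => (⟨g i 0, g i 1, g i 2, g i 3, g i 4, g i 5, g i 6⟩ : _ ∧ _ ∧ _ ∧ _ ∧ _ ∧ _ ∧ _)
  obtain ⟨a0, b0, c0, d0, e0, f0, g0⟩ := this 0
  obtain ⟨a1, b1, c1, d1, e1, f1, g1⟩ := this 1
  obtain ⟨a2, b2, c2, d2, e2, f2, g2⟩ := this 2
  obtain ⟨a3, b3, c3, d3, e3, f3, g3⟩ := this 3
  obtain ⟨a4, b4, c4, d4, e4, f4, g4⟩ := this 4
  obtain ⟨a5, b5, c5, d5, e5, f5, g5⟩ := this 5
  obtain ⟨a6, b6, c6, d6, e6, f6, g6⟩ := this 6
  simp only [M7.row, V7.get, Matrix.cons_val] at a0 b0 c0 d0 e0 f0 g0 a1 b1 c1 d1 e1 f1 g1 a2 b2 c2 d2 e2 f2 g2 a3 b3 c3 d3 e3 f3 g3 a4 b4 c4 d4 e4 f4 g4 a5 b5 c5 d5 e5 f5 g5 a6 b6 c6 d6 e6 f6 g6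
  rw [a0, b0, c0, d0, e0, f0, g0, a1, b1, c1, d1, e1, f1, g1, a2, b2, c2, d2, e2, f2, g2, a3, b3, c3, d3, e3, f3, g3,
    a4, b4, c4, d4, e4, f4, g4, a5, b5, c5, d5, e5, f5, g5, a6, b6, c6, d6, e6, f6, g6]

set_option maxRecDepth 100000 in
theorem nontrivial_els : entries (elem el19) ≠ entries one ∧ entries (hEl el11) ≠ entries one ∧
    entries (hEl el3) ≠ entries one ∧ entries matX ≠ entries one ∧ entries matY ≠ entries one := by
  decide +kernel

theorem prime_dvd {A : M7} {g : J} {p : ℕ} (hp : p.Prime) (h : Reps A g) (e : meq (powM A p) one = true)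
    (hne : entries A ≠ entries one) : p ∣ Nat.card J := by
  haveI := Fact.mk hp
  have h1 : g ^ p = 1 := (pow_reps h p).eq reps_one e
  have h2 : g ≠ 1 := not_one_of h (by rw [← toMat_one]; exact toMat_ne hne)
  rw [← orderOf_eq_prime h1 h2]
  exact orderOf_dvd_natCard g

theorem card_J : Nat.card J = 175560 := by
  have hle : Nat.card J ≤ 175560 := by
    refine (Nat.card_le_card_of_surjective (fun x : Fin 660 × Fin 266 => hU x.1 * tU x.2)
      fun g => ?_).trans (by simp)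
    obtain ⟨i, j, rfl⟩ := cover g
    exact ⟨(i, j), rfl⟩
  have hc := chk_orders
  simp only [Bool.and_eq_true, decide_eq_true_eq] at hc
  obtain ⟨⟨⟨⟨⟨⟨⟨⟨⟨⟨⟨⟨⟨⟨⟨⟨⟨⟨⟨⟨⟨⟨⟨⟨⟨hlt19a, hlt19b⟩, hlt11⟩, hlt3⟩, h19⟩, -⟩, h11⟩, -⟩, h3⟩, -⟩, h7⟩, -⟩, h5⟩, -⟩, l0a⟩, l0b⟩, l1a⟩, l1b⟩, l2a⟩, l2b⟩, s0⟩, s1⟩, s2⟩, c01⟩, c02⟩, c12⟩ := hc
  obtain ⟨n19, n11, n3, n7, n5⟩ := nontrivial_els
  have d19 := prime_dvd (by norm_num) (reps_elem hlt19a hlt19b) h19 n19
  have d11 := prime_dvd (by norm_num) (reps_hU ⟨el11, hlt11⟩) h11 n11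
  have d3 := prime_dvd (by norm_num) (reps_hU ⟨el3, hlt3⟩) h3 n3
  have d7 := prime_dvd (by norm_num) reps_x h7 n7
  have d5 := prime_dvd (by norm_num) reps_y h5 n5
  have r0 := reps_elem l0a l0b
  have r1 := reps_elem l1a l1b
  have r2 := reps_elem l2a l2b
  generalize hU ⟨inv8_0.1, l0a⟩ * tU ⟨inv8_0.2, l0b⟩ = u at r0
  generalize hU ⟨inv8_1.1, l1a⟩ * tU ⟨inv8_1.2, l1b⟩ = v at r1
  generalize hU ⟨inv8_2.1, l2a⟩ * tU ⟨inv8_2.2, l2b⟩ = w at r2
  have hu : u ^ 2 = 1 := (pow_reps r0 2).eq reps_one s0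
  have hv : v ^ 2 = 1 := (pow_reps r1 2).eq reps_one s1
  have hw : w ^ 2 = 1 := (pow_reps r2 2).eq reps_one s2
  have huv : Commute u v := (r0.mul r1).eq (r1.mul r0) c01
  have huw : Commute u w := (r0.mul r2).eq (r2.mul r0) c02
  have hvw : Commute v w := (r1.mul r2).eq (r2.mul r1) c12
  let K := Subgroup.closure ({u, v, w} : Set J)
  have hcomm : ∀ x ∈ K, ∀ y ∈ K, Commute x y := fun x hx y hy =>
    Subgroup.closure_induction₂ (p := fun a b _ _ => Commute a b)
      (fun a b ha hb => by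
        rcases ha with rfl | rfl | rfl <;> rcases hb with rfl | rfl | rfl <;>
          first | exact Commute.refl _ | assumption | exact Commute.symm (by assumption))
      (fun a _ => Commute.one_left a) (fun a _ => Commute.one_right a)
      (fun a b c _ _ _ h1 h2 => h1.mul_left h2) (fun a b c _ _ _ h1 h2 => h1.mul_right h2)
      (fun a b _ _ h1 => h1.inv_left) (fun a b _ _ h1 => h1.inv_right) hx hy
  have hexp : ∀ x ∈ K, x ^ 2 = 1 := by
    intro x hx
    induction hx using Subgroup.closure_induction with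
    | mem a ha => rcases ha with rfl | rfl | rfl <;> assumption
    | one => exact one_pow _
    | mul a b ha hb iha ihb => rw [(hcomm a ha b hb).mul_pow, iha, ihb, one_mul]
    | inv a _ iha => rw [inv_pow, iha, inv_one]
  haveI : Fact (Nat.Prime 2) := ⟨Nat.prime_two⟩
  have hK : IsPGroup 2 K := fun x => ⟨1, Subtype.ext (by simpa using hexp x x.2)⟩
  obtain ⟨k, hk⟩ := IsPGroup.iff_card.mp hK
  have hmem : ∀ m ∈ eight, ∃ g ∈ K, Reps m g := by
    have mu : u ∈ K := Subgroup.subset_closure (by simp)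
    have mv : v ∈ K := Subgroup.subset_closure (by simp)
    have mw : w ∈ K := Subgroup.subset_closure (by simp)
    intro m hm
    simp only [eight, List.mem_cons, List.not_mem_nil, or_false] at hm
    rcases hm with rfl | rfl | rfl | rfl | rfl | rfl | rfl | rfl
    exacts [⟨1, one_mem K, reps_one⟩, ⟨u, mu, r0⟩, ⟨v, mv, r1⟩, ⟨w, mw, r2⟩, ⟨_, mul_mem mu mv, r0.mul r1⟩,
      ⟨_, mul_mem mu mw, r0.mul r2⟩, ⟨_, mul_mem mv mw, r1.mul r2⟩, ⟨_, mul_mem (mul_mem mu mv) mw, (r0.mul r1).mul r2⟩]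
  have h8 : 8 ≤ Nat.card K := by
    choose f hfK hf using fun i : Fin eight.length => hmem (eight.get i) (List.get_mem _ _)
    have hinj : Function.Injective fun i => (⟨f i, hfK i⟩ : K) := by
      intro i j e
      have e' : f i = f j := congrArg Subtype.val e
      by_contra hij
      refine toMat_ne (A := eight.get i) (B := eight.get j) (fun he => hij ?_) ?_
      · have hnd := chk_eight
        rw [List.nodup_iff_injective_get] at hnd
        have h2 : (eight.map entries).get (Fin.cast (by simp) i) = (eight.map entries).get (Fin.cast (by simp) j) := by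
          simpa [List.get_eq_getElem] using he
        exact Fin.ext (congrArg Fin.val (hnd h2) :)
      · rw [← hf i, ← hf j, e']
    simpa [eight] using Nat.card_le_card_of_injective _ hinj
  have d8 : 8 ∣ Nat.card J := by
    refine dvd_trans ?_ K.card_subgroup_dvd_card
    rw [hk] at h8 ⊢
    have : 3 ≤ k := by
      by_contra hc
      interval_cases k <;> norm_num at h8
    exact Nat.pow_dvd_pow 2 this
  have hall : 175560 ∣ Nat.card J := by
    have e : (175560 : ℕ) = 8 * 3 * 5 * 7 * 11 * 19 := by norm_num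
    rw [e]
    exact Nat.Coprime.mul_dvd_of_dvd_of_dvd (by norm_num) (Nat.Coprime.mul_dvd_of_dvd_of_dvd (by norm_num)
      (Nat.Coprime.mul_dvd_of_dvd_of_dvd (by norm_num) (Nat.Coprime.mul_dvd_of_dvd_of_dvd (by norm_num)
      (Nat.Coprime.mul_dvd_of_dvd_of_dvd (by norm_num) d8 d3) d5) d7) d11) d19
  exact le_antisymm hle (Nat.le_of_dvd Nat.card_pos hall)

theorem bij : Function.Bijective fun x : Fin 660 × Fin 266 => hU x.1 * tU x.2 := by
  have hs : Function.Surjective fun x : Fin 660 × Fin 266 => hU x.1 * tU x.2 := fun g => by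
    obtain ⟨i, j, rfl⟩ := cover g
    exact ⟨(i, j), rfl⟩
  exact (Nat.bijective_iff_surjective_and_card _).mpr ⟨hs, by rw [card_J]; simp⟩

theorem card_H : Nat.card H = 660 := by
  have hinj : Function.Injective hU := by
    intro i j e
    have := bij.1 (a₁ := (i, 0)) (a₂ := (j, 0)) (by simp only [tU_zero, mul_one, e])
    exact congrArg Prod.fst this
  show Nat.card (Set.range hU) = 660
  rw [Nat.card_range_of_injective hinj]
  simp

theorem not_mem_H {i : Fin 660} {j : Fin 266} (hj : (j : Nat) ≠ 0) : hU i * tU j ∉ H := by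
  rintro ⟨k, hk⟩
  have := bij.1 (a₁ := (k, 0)) (a₂ := (i, j)) (by simp only [tU_zero, mul_one, hk])
  exact hj (congrArg (fun x : Fin 660 × Fin 266 => (x.2 : Nat)) this).symm

theorem maximal {K : Subgroup J} (hle : H ≤ K) {g : J} (hg : g ∈ K) (hgH : g ∉ H) : K = ⊤ := by
  obtain ⟨i, j, rfl⟩ := cover g
  have hj : (j : Nat) ≠ 0 := fun h => hgH (by rw [show j = 0 from Fin.ext h, tU_zero, mul_one]; exact hU_mem i)
  have hjK : tU j ∈ K := (Subgroup.mul_mem_cancel_left K (hle (hU_mem i))).mp hg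
  have hs := allTo_spec chk_subOrb j.2
  simp only [beq_eq_false_iff_ne.mpr hj, Bool.false_or, Bool.and_eq_true, decide_eq_true_eq] at hs
  obtain ⟨⟨⟨h1, h2⟩, hr⟩, he⟩ := hs
  have hm := allTo_spec chk_max hr
  simp only [Bool.and_eq_true, decide_eq_true_eq] at hm
  obtain ⟨⟨⟨⟨hx1, hy1⟩, hrlt⟩, hxe⟩, hye⟩ := hm
  have hrK : tU ⟨subRep (subOrb j).2.2, hrlt⟩ ∈ K := by
    have e := ((reps_tU j).mul (reps_hU ⟨_, h1⟩)).eq
      (reps_elem (x := ((subOrb j).2.1, subRep (subOrb j).2.2)) h2 hrlt) he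
    exact (Subgroup.mul_mem_cancel_left K (hle (hU_mem _))).mp (e ▸ mul_mem hjK (hle (hU_mem _)))
  have hgen : ∀ (w : List Nat) (k : Fin 660) (M : M7) (z : J), Reps M z →
      meq (mm (hEl k) (prodM (w.map (gMax (subOrb j).2.2)))) M = true → z ∈ K := by
    intro w k M z hz e
    obtain ⟨y, hy, hyK⟩ := reps_prod (gMax (subOrb j).2.2) (fun x => x ∈ K) (one_mem K) (fun _ _ => mul_mem) w
      fun a _ => by
        unfold gMax
        by_cases ha : a = 2
        · subst ha; exact ⟨_, reps_tU ⟨_, hrlt⟩, hrK⟩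
        · rw [if_neg (by simpa using ha)]; exact ⟨_, reps_gab a, hle (gab_mem a)⟩
    rw [← ((reps_hU k).mul hy).eq hz e]
    exact mul_mem (hle (hU_mem k)) hyK
  have hxK : gx ∈ K := hgen _ ⟨_, hx1⟩ _ _ reps_x hxe
  have hyK : gy ∈ K := hgen _ ⟨_, hy1⟩ _ _ reps_y hye
  rw [eq_top_iff]
  rintro ⟨z, hz⟩ -
  induction hz using Subgroup.closure_induction with
  | mem w hw =>
    rcases hw with rfl | rfl
    · exact hxK
    · exact hyK
  | one => exact one_mem K
  | mul a b ha hb iha ihb => exact mul_mem (s := K) iha ihb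
  | inv a ha iha => exact inv_mem (s := K) iha

theorem H_le_of_mem {N : Subgroup J} [hN : N.Normal] {g : J} (hg : g ∈ N) (hgH : g ∈ H) (hne : g ≠ 1) : H ≤ N := by
  obtain ⟨i, rfl⟩ := hgH
  have hi : (i : Nat) ≠ 0 := fun h => hne (by rw [show i = 0 from Fin.ext h, hU_zero])
  have hc := allTo_spec chk_cls i.2
  simp only [beq_eq_false_iff_ne.mpr hi, Bool.false_or, Bool.and_eq_true, decide_eq_true_eq] at hc
  obtain ⟨⟨hc1, hr⟩, he⟩ := hc
  have hgn := allTo_spec chk_gen hr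
  simp only [Bool.and_eq_true, decide_eq_true_eq, List.all_eq_true] at hgn
  obtain ⟨⟨⟨⟨hrep, hA⟩, hB⟩, hAe⟩, hBe⟩ := hgn
  have hR : hU ⟨_, hrep⟩ ∈ N := by
    have e := ((reps_hU ⟨_, hc1⟩).mul (reps_hU i)).eq ((reps_hU ⟨_, hrep⟩).mul (reps_hU ⟨_, hc1⟩)) he
    have := hN.conj_mem _ hg (hU ⟨_, hc1⟩)
    rwa [e, mul_inv_cancel_right] at this
  have hgen : ∀ (w : List Nat) (g : Nat), (∀ c ∈ w, c < 660) →
      meq (prodM (w.map (conjRep (hCls i).2))) (gAB g) = true → gab g ∈ N := by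
    intro w g hw e
    obtain ⟨y, hy, hyN⟩ := reps_prod (conjRep (hCls i).2) (fun x => x ∈ N) (one_mem N) (fun _ _ => mul_mem) w
      fun c hcw => by
        have hi' := allTo_spec chk_hInv (hw c hcw)
        simp only [Bool.and_eq_true, decide_eq_true_eq] at hi'
        refine ⟨_, ((reps_hU ⟨c, hw c hcw⟩).mul (reps_hU ⟨_, hrep⟩)).mul (reps_hU ⟨_, hi'.1⟩), ?_⟩
        rw [← inv_eq_of_mul_eq_one_right (((reps_hU ⟨c, hw c hcw⟩).mul (reps_hU ⟨_, hi'.1⟩)).eq reps_one hi'.2)]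
        exact hN.conj_mem _ hR _
    rwa [← hy.eq (reps_gab g) e]
  have ha : gab 0 ∈ N := hgen _ 0 hA hAe
  have hb : gab 1 ∈ N := hgen _ 1 hB hBe
  rintro _ ⟨k, rfl⟩
  exact hU_mem_of_gab ha hb k

theorem H_not_normal : ∃ g h : J, h ∈ H ∧ g * h * g⁻¹ ∉ H := by
  obtain ⟨-, -, -, -, h1, h2, h3, he⟩ := base_facts
  refine ⟨gx, gab 0, gab_mem 0, ?_⟩
  have r : Reps (prodM [gXY 0, gAB 0, gXY 0, gXY 0, gXY 0, gXY 0, gXY 0, gXY 0]) (gx * (gab 0 * (gx * (gx * (gx * (gx * (gx * (gx * 1)))))))) :=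
    reps_x.mul ((reps_gab 0).mul (reps_x.mul (reps_x.mul (reps_x.mul (reps_x.mul (reps_x.mul (reps_x.mul reps_one)))))))
  have e := r.eq (reps_elem h1 h2) he
  have h7 : gx ^ 7 = 1 := by
    have hc := chk_orders
    simp only [Bool.and_eq_true, decide_eq_true_eq] at hc
    obtain ⟨⟨⟨⟨⟨⟨⟨⟨⟨⟨⟨⟨⟨⟨⟨⟨⟨⟨⟨⟨⟨⟨⟨⟨⟨-, -⟩, -⟩, -⟩, -⟩, -⟩, -⟩, -⟩, -⟩, -⟩, h7⟩, -⟩, -⟩, -⟩, -⟩, -⟩, -⟩, -⟩, -⟩, -⟩, -⟩, -⟩, -⟩, -⟩, -⟩, -⟩ := hc
    exact (pow_reps reps_x 7).eq reps_one h7
  have hinv : gx⁻¹ = gx ^ 6 := inv_eq_of_mul_eq_one_right (by rw [← pow_succ', h7])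
  have : gx * gab 0 * gx⁻¹ = gx * (gab 0 * (gx * (gx * (gx * (gx * (gx * (gx * 1))))))) := by
    rw [hinv]; simp only [pow_succ, pow_zero, one_mul, mul_one, mul_assoc]
  rw [this, e]
  exact not_mem_H h3

theorem isSimple_J : IsSimpleGroup J := by
  haveI : Nontrivial J := Finite.one_lt_card_iff_nontrivial.mp (by rw [card_J]; norm_num)
  refine ⟨fun N hN => ?_⟩
  haveI := hN
  have hnotle : ∀ M : Subgroup J, M.Normal → M ≤ H → M = ⊥ := by
    intro M hM hle
    rw [Subgroup.eq_bot_iff_forall]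
    intro x hx
    by_contra hne
    haveI := hM
    obtain ⟨g, h, hh, hgh⟩ := H_not_normal
    exact hgh (hle (hM.conj_mem h (H_le_of_mem hx (hle hx) hne hh) g))
  by_cases hle : N ≤ H
  · exact Or.inl (hnotle N hN hle)
  obtain ⟨g, hgN, hgH⟩ := SetLike.not_le_iff_exists.mp hle
  have htop : N ⊔ H = ⊤ := maximal le_sup_right (Subgroup.mem_sup_left hgN) hgH
  by_cases hd : ∃ x, x ∈ N ∧ x ∈ H ∧ x ≠ 1
  · obtain ⟨x, hxN, hxH, hne⟩ := hd
    exact Or.inr (by rw [← htop, sup_eq_left.mpr (H_le_of_mem hxN hxH hne)])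
  exfalso
  push Not at hd
  have hcomp : Subgroup.IsComplement' N H := by
    refine Subgroup.isComplement'_of_disjoint_and_mul_eq_univ (Subgroup.disjoint_def.mpr fun h1 h2 => hd _ h1 h2) ?_
    rw [← Subgroup.normal_mul, htop]; rfl
  have hN266 : Nat.card N = 266 := by
    have := hcomp.card_mul
    rw [card_H, card_J] at this
    omega
  haveI : Fact (Nat.Prime 19) := ⟨by norm_num⟩
  obtain ⟨P⟩ : Nonempty (Sylow 19 N) := inferInstance
  have hP : Nat.card (P : Subgroup N) = 19 := by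
    rw [P.card_eq_multiplicity, hN266, show (266 : ℕ) = 19 * 14 by norm_num,
      Nat.factorization_mul (by norm_num) (by norm_num), Finsupp.add_apply, Nat.Prime.factorization_self (by norm_num),
      Nat.factorization_eq_zero_of_not_dvd (by norm_num)]
    norm_num
  have hone : Nat.card (Sylow 19 N) = 1 := by
    have h1 := card_sylow_modEq_one 19 N
    have h2 := P.card_dvd_index
    have h3 : (P : Subgroup N).index = 14 := by
      have := (P : Subgroup N).card_mul_index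
      rw [hP, hN266] at this
      omega
    rw [h3] at h2
    have h4 := Nat.le_of_dvd (by norm_num) h2
    unfold Nat.ModEq at h1
    omega
  haveI : Subsingleton (Sylow 19 N) := (Nat.card_eq_one_iff_unique.mp hone).1
  haveI : (P : Subgroup N).Normal := P.normal_of_subsingleton
  haveI : (P : Subgroup N).Characteristic := P.characteristic_of_normal ‹_›
  let Q : Subgroup J := (P : Subgroup N).map N.subtype
  haveI hQ : Q.Normal := inferInstanceAs (((P : Subgroup N).map N.subtype).Normal)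
  have hQc : Nat.card Q = 19 := by
    rw [Subgroup.card_subtype, hP]
  have hQN : Q ≤ N := Subgroup.map_subtype_le _
  obtain ⟨q, hq, hq1⟩ : ∃ q ∈ Q, q ≠ 1 := by
    by_contra h
    push Not at h
    rw [(Subgroup.eq_bot_iff_forall Q).mpr h, Subgroup.card_bot] at hQc
    omega
  have hqH : q ∉ H := fun h => hq1 (hd q (hQN hq) h)
  have htop' : Q ⊔ H = ⊤ := maximal le_sup_right (Subgroup.mem_sup_left hq) hqH
  have hc2 : Subgroup.IsComplement' Q H := by
    refine Subgroup.isComplement'_of_disjoint_and_mul_eq_univ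
      (Subgroup.disjoint_def.mpr fun h1 h2 => hd _ (hQN h1) h2) ?_
    rw [← Subgroup.normal_mul, htop']; rfl
  have := hc2.card_mul
  rw [hQc, card_H, card_J] at this
  omega

theorem isJ1 : Cfsg.IsJ1 J1 := ⟨isSimple_J, card_J⟩

end CfsgLib.SporadicB.J1Cert
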