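import Mathlib

/-!
Arithmetic of 7 x 7 matrices over the integers modulo 11, fast enough for kernel evaluation.
-/

namespace CfsgLib.SporadicB.J1Cert

/-- A row. -/
structure V7 where
  a : Nat
  b : Nat
  c : Nat
  d : Nat
  e : Nat
  f : Nat
  g : Nat

/-- A matrix as seven rows. -/
structure M7 where
  r0 : V7
  r1 : V7
  r2 : V7
  r3 : V7
  r4 : V7
  r5 : V7
  r6 : V7

/-- Entries of a row. -/
def V7.get (v : V7) : Fin 7 → Nat := ![v.a, v.b, v.c, v.d, v.e, v.f, v.g]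

/-- Rows of a matrix. -/
def M7.row (A : M7) : Fin 7 → V7 := ![A.r0, A.r1, A.r2, A.r3, A.r4, A.r5, A.r6]

/-- The matrix represented. -/
def toMat (A : M7) : Matrix (Fin 7) (Fin 7) (ZMod 11) := fun i j => ((A.row i).get j : ZMod 11)

/-- Dot product modulo 11. -/
def dot (u v : V7) : Nat :=
  (u.a * v.a + u.b * v.b + u.c * v.c + u.d * v.d + u.e * v.e + u.f * v.f + u.g * v.g) % 11

/-- Transpose. -/
def tr (B : M7) : M7 :=
  ⟨⟨B.r0.a, B.r1.a, B.r2.a, B.r3.a, B.r4.a, B.r5.a, B.r6.a⟩,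
   ⟨B.r0.b, B.r1.b, B.r2.b, B.r3.b, B.r4.b, B.r5.b, B.r6.b⟩,
   ⟨B.r0.c, B.r1.c, B.r2.c, B.r3.c, B.r4.c, B.r5.c, B.r6.c⟩,
   ⟨B.r0.d, B.r1.d, B.r2.d, B.r3.d, B.r4.d, B.r5.d, B.r6.d⟩,
   ⟨B.r0.e, B.r1.e, B.r2.e, B.r3.e, B.r4.e, B.r5.e, B.r6.e⟩,
   ⟨B.r0.f, B.r1.f, B.r2.f, B.r3.f, B.r4.f, B.r5.f, B.r6.f⟩,
   ⟨B.r0.g, B.r1.g, B.r2.g, B.r3.g, B.r4.g, B.r5.g, B.r6.g⟩⟩

/-- A row times a transposed matrix. -/
def rowMul (u : V7) (B : M7) : V7 :=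
  ⟨dot u B.r0, dot u B.r1, dot u B.r2, dot u B.r3, dot u B.r4, dot u B.r5, dot u B.r6⟩

/-- Product with a transposed matrix. -/
def mmT (A B : M7) : M7 :=
  ⟨rowMul A.r0 B, rowMul A.r1 B, rowMul A.r2 B, rowMul A.r3 B, rowMul A.r4 B, rowMul A.r5 B, rowMul A.r6 B⟩

/-- Matrix product. -/
def mm (A B : M7) : M7 := mmT A (tr B)

/-- Equality test of rows. -/
def veq (u v : V7) : Bool :=
  (u.a == v.a) && (u.b == v.b) && (u.c == v.c) && (u.d == v.d) && (u.e == v.e) && (u.f == v.f) && (u.g == v.g)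

/-- Equality test of matrices. -/
def meq (A B : M7) : Bool :=
  veq A.r0 B.r0 && veq A.r1 B.r1 && veq A.r2 B.r2 && veq A.r3 B.r3 && veq A.r4 B.r4 && veq A.r5 B.r5 &&
    veq A.r6 B.r6

/-- The identity. -/
def one : M7 :=
  ⟨⟨1,0,0,0,0,0,0⟩,⟨0,1,0,0,0,0,0⟩,⟨0,0,1,0,0,0,0⟩,⟨0,0,0,1,0,0,0⟩,⟨0,0,0,0,1,0,0⟩,⟨0,0,0,0,0,1,0⟩,⟨0,0,0,0,0,0,1⟩⟩

/-- Left-to-right product. -/
def prodM : List M7 → M7
  | [] => one
  | A :: l => mm A (prodM l)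

theorem veq_eq {u v : V7} (h : veq u v = true) : u = v := by
  cases u; cases v
  simp [veq] at h
  obtain ⟨⟨⟨⟨⟨⟨h1, h2⟩, h3⟩, h4⟩, h5⟩, h6⟩, h7⟩ := h
  subst h1 h2 h3 h4 h5 h6 h7; rfl

theorem meq_eq {A B : M7} (h : meq A B = true) : A = B := by
  cases A; cases B
  simp only [meq, Bool.and_eq_true] at h
  obtain ⟨⟨⟨⟨⟨⟨h1, h2⟩, h3⟩, h4⟩, h5⟩, h6⟩, h7⟩ := h
  rw [veq_eq h1, veq_eq h2, veq_eq h3, veq_eq h4, veq_eq h5, veq_eq h6, veq_eq h7]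

theorem dot_cast (u v : V7) : (dot u v : ZMod 11) = ∑ k, (u.get k : ZMod 11) * (v.get k : ZMod 11) := by
  rw [dot, ZMod.natCast_mod, Fin.sum_univ_seven]
  push_cast
  rfl

theorem toMat_mm (A B : M7) : toMat (mm A B) = toMat A * toMat B := by
  ext i j
  have hentry : ((mm A B).row i).get j = dot (A.row i) ((tr B).row j) := by
    fin_cases i <;> fin_cases j <;> rfl
  have htr : ∀ k, ((tr B).row j).get k = (B.row k).get j := fun k => by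
    fin_cases j <;> fin_cases k <;> rfl
  rw [Matrix.mul_apply]
  show (((mm A B).row i).get j : ZMod 11) = _
  rw [hentry, dot_cast]
  exact Finset.sum_congr rfl fun k _ => by rw [htr]; rfl

theorem toMat_one : toMat one = 1 := by decide

end CfsgLib.SporadicB.J1Cert
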